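import Groth.Agent.EtDual.K143.ProdRing
import Mathlib.RingTheory.Spectrum.Prime.Topology
import Mathlib.Topology.LocallyConstant.Basic

/-!
# Locally constant functions on the spectrum of a product of valuation rings

`T = ∏ V i`, `V i` valuation rings (domains suffice for most), `η i : Spec T` the generic point of the
`i`-th factor, `M` finite.  Locally constant functions on `Spec T` with values in `M` are the functions
`I → M` (`ext`, `eq_ext`), and every locally constant function on a quasi-compact open subset extends.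
-/

set_option autoImplicit false

universe u v w

open TopologicalSpace

namespace Groth.Agent.EtDual.K143.PV

section

variable {I : Type v} {V : I → Type u} [∀ i, CommRing (V i)] [∀ i, IsDomain (V i)]

/-- the generic point of the `i`-th factor of `T = ∏ V i`. -/
def eta (i : I) : PrimeSpectrum (∀ i, V i) := ⟨RingHom.ker (Pi.evalRingHom V i), RingHom.ker_isPrime _⟩

theorem mem_eta (i : I) (x : ∀ i, V i) : x ∈ (eta i : PrimeSpectrum (∀ i, V i)).asIdeal ↔ x i = 0 := Iff.rfl

theorem isReduced_pi : IsReduced (∀ i, V i) := inferInstance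

theorem exists_eta_mem (x : ∀ i, V i) (q : PrimeSpectrum (∀ i, V i)) (hq : x ∉ q.asIdeal) :
    ∃ i, x ∉ (eta i : PrimeSpectrum (∀ i, V i)).asIdeal := by
  by_contra h
  push Not at h
  apply hq
  have : x = 0 := funext fun i => h i
  rw [this]
  exact Ideal.zero_mem _

/-- The generic points are dense in every open subset. -/
theorem exists_eta_mem_open (O : Set (PrimeSpectrum (∀ i, V i))) (hO : IsOpen O) (q : PrimeSpectrum (∀ i, V i))
    (hq : q ∈ O) : ∃ i, (eta i : PrimeSpectrum (∀ i, V i)) ∈ O := by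
  obtain ⟨_, ⟨x, rfl⟩, hqx, hxO⟩ := PrimeSpectrum.isTopologicalBasis_basic_opens.exists_subset_of_mem_open hq hO
  obtain ⟨i, hi⟩ := exists_eta_mem x q hqx
  exact ⟨i, hxO hi⟩

/-- idempotent of a subset of the index set. -/
noncomputable def ind (A : Set I) : ∀ i, V i := by
  classical
  exact fun i => if i ∈ A then 1 else 0

theorem ind_apply_of_mem {A : Set I} {i : I} (h : i ∈ A) : (ind A : ∀ i, V i) i = 1 := by
  classical
  simp [ind, h]

theorem ind_apply_of_notMem {A : Set I} {i : I} (h : i ∉ A) : (ind A : ∀ i, V i) i = 0 := by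
  classical
  simp [ind, h]

theorem ind_mul_ind (A B : Set I) : (ind A * ind B : ∀ i, V i) = ind (A ∩ B) := by
  funext i
  by_cases h1 : i ∈ A
  · by_cases h2 : i ∈ B
    · rw [Pi.mul_apply, ind_apply_of_mem h1, ind_apply_of_mem h2,
        ind_apply_of_mem (show i ∈ A ∩ B from ⟨h1, h2⟩), mul_one]
    · rw [Pi.mul_apply, ind_apply_of_notMem h2,
        ind_apply_of_notMem (fun h : i ∈ A ∩ B => h2 h.2), mul_zero]
  · rw [Pi.mul_apply, ind_apply_of_notMem h1,
      ind_apply_of_notMem (fun h : i ∈ A ∩ B => h1 h.1), zero_mul]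

theorem ind_empty : (ind (∅ : Set I) : ∀ i, V i) = 0 := by
  funext i
  rw [ind_apply_of_notMem (Set.notMem_empty i)]
  rfl

variable {M : Type w} [Finite M]

theorem sum_ind (φ : I → M) (q : PrimeSpectrum (∀ i, V i)) :
    ∃ c : M, (ind {i | φ i = c} : ∀ i, V i) ∉ q.asIdeal := by
  classical
  by_contra h
  push Not at h
  have := Fintype.ofFinite M
  have h1 : (∑ c : M, ind {i | φ i = c} : ∀ i, V i) = 1 := by
    funext i
    rw [Finset.sum_apply, Finset.sum_eq_single (φ i)]
    · exact ind_apply_of_mem rfl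
    · intro c _ hc
      exact ind_apply_of_notMem (fun h => hc h.symm)
    · intro h; exact absurd (Finset.mem_univ _) h
  have h2 : (1 : ∀ i, V i) ∈ q.asIdeal := by
    rw [← h1]
    exact Ideal.sum_mem _ fun c _ => h c
  exact q.isPrime.ne_top ((Ideal.eq_top_iff_one _).2 h2)

/-- the locally constant function on `Spec T` attached to `φ : I → M`. -/
noncomputable def ext (φ : I → M) : LocallyConstant (PrimeSpectrum (∀ i, V i)) M where
  toFun q := (sum_ind φ q).choose
  isLocallyConstant := by
    rw [IsLocallyConstant.iff_exists_open]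
    intro q
    refine ⟨{r | (ind {i | φ i = (sum_ind φ q).choose} : ∀ i, V i) ∉ r.asIdeal},
      (PrimeSpectrum.basicOpen _).isOpen, (sum_ind φ q).choose_spec, ?_⟩
    intro r hr
    by_contra hne
    have h1 : (ind {i | φ i = (sum_ind φ q).choose} : ∀ i, V i) * ind {i | φ i = (sum_ind φ r).choose} = 0 := by
      rw [ind_mul_ind]
      have : {i | φ i = (sum_ind φ q).choose} ∩ {i | φ i = (sum_ind φ r).choose} = ∅ := by
        refine Set.eq_empty_iff_forall_notMem.2 fun i hi => ?_
        have h1 : φ i = _ := hi.1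
        have h2 : φ i = _ := hi.2
        exact hne (h2.symm.trans h1)
      rw [this, ind_empty]
    have h2 := r.isPrime.mem_or_mem (x := ind {i | φ i = (sum_ind φ q).choose})
      (y := ind {i | φ i = (sum_ind φ r).choose}) (by rw [h1]; exact Ideal.zero_mem _)
    rcases h2 with h2 | h2
    · exact hr h2
    · exact (sum_ind φ r).choose_spec h2

theorem ext_eq_iff (φ : I → M) (q : PrimeSpectrum (∀ i, V i)) (c : M) :
    ext φ q = c ↔ (ind {i | φ i = c} : ∀ i, V i) ∉ q.asIdeal := by
  constructor
  · rintro rfl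
    exact (sum_ind φ q).choose_spec
  · intro h
    by_contra hne
    have h1 : (ind {i | φ i = c} : ∀ i, V i) * ind {i | φ i = (sum_ind φ q).choose} = 0 := by
      rw [ind_mul_ind]
      have : {i | φ i = c} ∩ {i | φ i = (sum_ind φ q).choose} = ∅ := by
        refine Set.eq_empty_iff_forall_notMem.2 fun i hi => ?_
        have h1 : φ i = _ := hi.1
        have h2 : φ i = _ := hi.2
        exact hne (h2.symm.trans h1)
      rw [this, ind_empty]
    have h2 := q.isPrime.mem_or_mem (x := ind {i | φ i = c})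
      (y := ind {i | φ i = (sum_ind φ q).choose}) (by rw [h1]; exact Ideal.zero_mem _)
    rcases h2 with h2 | h2
    · exact h h2
    · exact (sum_ind φ q).choose_spec h2

@[simp] theorem ext_eta (φ : I → M) (i : I) : ext φ (eta i : PrimeSpectrum (∀ i, V i)) = φ i := by
  rw [ext_eq_iff]
  intro h
  have : (ind {j | φ j = φ i} : ∀ i, V i) i = 0 := h
  rw [ind_apply_of_mem (show i ∈ {j | φ j = φ i} from rfl)] at this
  exact one_ne_zero this

omit [Finite M] in
/-- Two locally constant functions on an open subset `O` of `Spec T` which agree at the generic points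
`η i ∈ O` are equal. -/
theorem eq_of_eta {O : Set (PrimeSpectrum (∀ i, V i))} (hO : IsOpen O) (f f' : LocallyConstant O M)
    (h : ∀ i (hi : (eta i : PrimeSpectrum (∀ i, V i)) ∈ O), f ⟨eta i, hi⟩ = f' ⟨eta i, hi⟩) : f = f' := by
  ext ⟨q, hq⟩
  have h1 : IsOpen {r : O | f r = f ⟨q, hq⟩ ∧ f' r = f' ⟨q, hq⟩} :=
    (f.isLocallyConstant.isOpen_fiber _).inter (f'.isLocallyConstant.isOpen_fiber _)
  have h2 : IsOpen (Subtype.val '' {r : O | f r = f ⟨q, hq⟩ ∧ f' r = f' ⟨q, hq⟩}) :=
    hO.isOpenMap_subtype_val _ h1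
  obtain ⟨i, ⟨r, ⟨hr1, hr2⟩, hri⟩⟩ := exists_eta_mem_open _ h2 q ⟨⟨q, hq⟩, ⟨rfl, rfl⟩, rfl⟩
  have hi : (eta i : PrimeSpectrum (∀ i, V i)) ∈ O := by rw [← hri]; exact r.2
  have hre : r = ⟨eta i, hi⟩ := Subtype.ext hri
  rw [← hr1, ← hr2, hre]
  exact h i hi

omit [Finite M] in
theorem eq_of_eta' (f f' : LocallyConstant (PrimeSpectrum (∀ i, V i)) M)
    (h : ∀ i, f (eta i) = f' (eta i)) : f = f' := by
  ext q
  have h1 : IsOpen {r | f r = f q ∧ f' r = f' q} :=
    (f.isLocallyConstant.isOpen_fiber _).inter (f'.isLocallyConstant.isOpen_fiber _)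
  obtain ⟨i, hr1, hr2⟩ := exists_eta_mem_open _ h1 q ⟨rfl, rfl⟩
  rw [← hr1, ← hr2]
  exact h i

theorem eq_ext (f : LocallyConstant (PrimeSpectrum (∀ i, V i)) M) : f = ext fun i => f (eta i) :=
  eq_of_eta' _ _ fun i => by rw [ext_eta]

end

section Val

variable {I : Type v} {V : I → Type u} [∀ i, CommRing (V i)] [∀ i, IsDomain (V i)] [∀ i, ValuationRing (V i)]

/-- Quasi-compact open subsets of `Spec T` are principal. -/
theorem exists_eq_basicOpen (O : Set (PrimeSpectrum (∀ i, V i))) (hO : IsOpen O) (hc : IsCompact O) :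
    ∃ h : ∀ i, V i, O = PrimeSpectrum.basicOpen h := by
  obtain ⟨J, hJ, rfl⟩ := PrimeSpectrum.isCompact_isOpen_iff_ideal.1 ⟨hc, hO⟩
  obtain ⟨h, hh⟩ := (IsBezout.isPrincipal_of_FG J hJ).principal
  refine ⟨h, ?_⟩
  rw [hh, PrimeSpectrum.basicOpen_eq_zeroLocus_compl, Ideal.submodule_span_eq,
    PrimeSpectrum.zeroLocus_span]

/-- Every locally constant function with values in a finite set on a quasi-compact open subset of
`Spec T` extends to `Spec T`. -/
theorem exists_ext {M : Type w} [Finite M] [Nonempty M] (O : Set (PrimeSpectrum (∀ i, V i))) (hO : IsOpen O)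
    (hc : IsCompact O) (f : LocallyConstant O M) :
    ∃ φ : I → M, ∀ q : O, f q = ext φ q.1 := by
  classical
  let φ : I → M := fun i => if h : (eta i : PrimeSpectrum (∀ i, V i)) ∈ O then f ⟨eta i, h⟩ else Classical.arbitrary M
  refine ⟨φ, fun q => ?_⟩
  symm
  rw [ext_eq_iff]
  have h1 : IsOpen (Subtype.val '' {r : O | f r = f q}) :=
    hO.isOpenMap_subtype_val _ (f.isLocallyConstant.isOpen_fiber _)
  have h2 : IsCompact (Subtype.val '' {r : O | f r = f q}) := by
    haveI : CompactSpace O := isCompact_iff_compactSpace.1 hc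
    refine IsCompact.image ?_ continuous_subtype_val
    exact (f.isLocallyConstant.isClopen_fiber (f q)).isClosed.isCompact
  obtain ⟨h, hh⟩ := exists_eq_basicOpen _ h1 h2
  have hq : h ∉ q.1.asIdeal := by
    have : q.1 ∈ (PrimeSpectrum.basicOpen h : Set (PrimeSpectrum (∀ i, V i))) := by
      rw [← hh]; exact ⟨q, rfl, rfl⟩
    exact this
  intro hmem
  apply hq
  have key : h = h * ind {i | φ i = f q} := by
    funext i
    by_cases hi : h i = 0
    · simp [hi]
    · have : (eta i : PrimeSpectrum (∀ i, V i)) ∈ (PrimeSpectrum.basicOpen h : Set (PrimeSpectrum (∀ i, V i))) := hi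
      rw [← hh] at this
      obtain ⟨r, hr, hre⟩ := this
      have hiO : (eta i : PrimeSpectrum (∀ i, V i)) ∈ O := by rw [← hre]; exact r.2
      have : i ∈ {i | φ i = f q} := by
        change φ i = f q
        rw [← hr]
        simp only [φ, dif_pos hiO]
        congr 1
        exact Subtype.ext hre.symm
      rw [Pi.mul_apply, ind_apply_of_mem this, mul_one]
  rw [key]
  exact Ideal.mul_mem_left _ _ hmem

end Val

end Groth.Agent.EtDual.K143.PV
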