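import Groth.Agent.EtDual.K143.WittProd
import Groth.Agent.EtDual.K143.ProdLC
import Groth.Agent.EtDual.K658.UntiltVal

/-!
# The comparison map `LC(Spec B, M) → LC(Spec W(B)/ξ, M)`

`B` perfect of characteristic `p`, `ξ ∈ W(B)`.

* `alpha ξ` : the additive map (lift to `Spec W(B)`, restrict to `Spec W(B)/ξ`);
* `alpha_nat` : naturality; `alpha_const`; `alpha_vanish` : supports;
* `alpha_bijective`, `alpha_vanish_iff` : `B = ∏ V i`, `V i` and `W(V i)/ξ i` domains.
-/

set_option autoImplicit false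

universe u v w

open WittVector Ideal

namespace Groth.Agent.EtDual.K143.PV

variable {p : ℕ} [hp : Fact p.Prime]

/-- comap along a ring homomorphism. -/
noncomputable def lcMap {R : Type u} {S : Type v} [CommRing R] [CommRing S] (f : R →+* S) (M : Type w)
    [AddCommGroup M] : LocallyConstant (PrimeSpectrum R) M →+ LocallyConstant (PrimeSpectrum S) M :=
  LocallyConstant.comapAddMonoidHom ⟨PrimeSpectrum.comap f, PrimeSpectrum.continuous_comap f⟩

theorem lcMap_apply {R : Type u} {S : Type v} [CommRing R] [CommRing S] (f : R →+* S) {M : Type w}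
    [AddCommGroup M] (φ : LocallyConstant (PrimeSpectrum R) M) (q : PrimeSpectrum S) :
    lcMap f M φ q = φ (PrimeSpectrum.comap f q) := rfl

theorem lcMap_comp {R S T : Type*} [CommRing R] [CommRing S] [CommRing T] (f : R →+* S)
    (g : S →+* T) {M : Type w} [AddCommGroup M] (φ : LocallyConstant (PrimeSpectrum R) M) :
    lcMap (g.comp f) M φ = lcMap g M (lcMap f M φ) := rfl

theorem lcMap_const {R : Type u} {S : Type v} [CommRing R] [CommRing S] (f : R →+* S) {M : Type w}
    [AddCommGroup M] (m : M) : lcMap f M (LocallyConstant.const _ m) = LocallyConstant.const _ m := rfl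

section

variable {B : Type u} [CommRing B] [CharP B p] [PerfectRing B p] {M : Type w} [AddCommGroup M] [Finite M]

variable (p B M) in
/-- `LC(Spec W(B), M) ≃ LC(Spec B, M)`. -/
noncomputable def wEquiv : LocallyConstant (PrimeSpectrum (WittVector p B)) M ≃+
    LocallyConstant (PrimeSpectrum B) M :=
  AddEquiv.ofBijective (lcMap (constantCoeff : WittVector p B →+* B) M)
    (resW_bijective (p := p) (B := B) (M := M))

/-- The comparison map. -/
noncomputable def alpha (ξ : WittVector p B) (M : Type w) [AddCommGroup M] [Finite M] :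
    LocallyConstant (PrimeSpectrum B) M →+ LocallyConstant (PrimeSpectrum (WittVector p B ⧸ span {ξ})) M :=
  (lcMap (Ideal.Quotient.mk (span {ξ})) M).comp (wEquiv p B M).symm.toAddMonoidHom

theorem alpha_apply (ξ : WittVector p B) (ψ : LocallyConstant (PrimeSpectrum (WittVector p B)) M) :
    alpha ξ M (lcMap constantCoeff M ψ) = lcMap (Ideal.Quotient.mk (span {ξ})) M ψ := by
  change lcMap (Ideal.Quotient.mk (span {ξ})) M ((wEquiv p B M).symm (wEquiv p B M ψ)) = _
  rw [AddEquiv.symm_apply_apply]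

theorem exists_lift (φ : LocallyConstant (PrimeSpectrum B) M) :
    ∃ ψ : LocallyConstant (PrimeSpectrum (WittVector p B)) M, lcMap constantCoeff M ψ = φ :=
  ⟨(wEquiv p B M).symm φ, (wEquiv p B M).apply_symm_apply φ⟩

theorem alpha_const (ξ : WittVector p B) (m : M) :
    alpha ξ M (LocallyConstant.const _ m) = LocallyConstant.const _ m :=
  alpha_apply ξ (LocallyConstant.const _ m)

theorem alpha_nat {B' : Type v} [CommRing B'] [CharP B' p] [PerfectRing B' p] (ξ : WittVector p B) (f : B →+* B')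
    (φ : LocallyConstant (PrimeSpectrum B) M) :
    alpha (WittVector.map f ξ) M (lcMap f M φ) = lcMap (K148.Prim.sharpMap ξ f) M (alpha ξ M φ) := by
  obtain ⟨ψ, rfl⟩ := exists_lift (p := p) φ
  have h1 : lcMap f M (lcMap (constantCoeff : WittVector p B →+* B) M ψ) =
      lcMap (constantCoeff : WittVector p B' →+* B') M (lcMap (WittVector.map f) M ψ) := by
    rw [← lcMap_comp, ← lcMap_comp]
    congr 1
  rw [h1, alpha_apply, alpha_apply, ← lcMap_comp, ← lcMap_comp]
  congr 1

/-- `alpha` preserves "vanishing on `D(b)`". -/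
theorem alpha_vanish (ξ : WittVector p B) (φ : LocallyConstant (PrimeSpectrum B) M) (b : B)
    (h : ∀ q : PrimeSpectrum B, b ∉ q.asIdeal → φ q = 0)
    (q : PrimeSpectrum (WittVector p B ⧸ span {ξ})) (hq : K658.UntiltVal.sh ξ b ∉ q.asIdeal) :
    alpha ξ M φ q = 0 := by
  obtain ⟨ψ, rfl⟩ := exists_lift (p := p) φ
  rw [alpha_apply, lcMap_apply]
  exact resW_vanish ψ b h _ hq

end

section Prod

variable {I : Type v} {V : I → Type u} [∀ i, CommRing (V i)] [∀ i, IsDomain (V i)]
  {M : Type w} [AddCommGroup M] [Finite M]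

/-- A locally constant function on the spectrum of a domain is constant. -/
theorem eq_const_of_isDomain {D : Type u} [CommRing D] [IsDomain D] {M : Type w}
    (φ : LocallyConstant (PrimeSpectrum D) M) : φ = LocallyConstant.const _ (φ ⊥) := by
  have := PrimeSpectrum.irreducibleSpace (R := D)
  ext q
  exact φ.apply_eq_of_preconnectedSpace q ⊥

variable [CharP (∀ i, V i) p] [PerfectRing (∀ i, V i) p] [∀ i, CharP (V i) p] [∀ i, PerfectRing (V i) p]
  (ξ : WittVector p (∀ i, V i))
  [∀ i, IsDomain (WittVector p (V i) ⧸ span {WittVector.map (Pi.evalRingHom V i) ξ})]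

/-- The generic point of the `i`-th factor of `W(∏ V i)/ξ = ∏ W(V i)/ξ i`. -/
noncomputable def etaSharp (i : I) : PrimeSpectrum (WittVector p (∀ i, V i) ⧸ span {ξ}) :=
  PrimeSpectrum.comap (K148.Prim.sharpMap ξ (Pi.evalRingHom V i)) ⊥

omit [CharP (∀ i, V i) p] [PerfectRing (∀ i, V i) p] [∀ i, CharP (V i) p] [∀ i, PerfectRing (V i) p]
  [∀ i, IsDomain (V i)] in
theorem comap_sharpPi_eta (i : I) :
    PrimeSpectrum.comap (sharpPi ξ).toRingHom
      (eta i : PrimeSpectrum (∀ i, WittVector p (V i) ⧸ span {WittVector.map (Pi.evalRingHom V i) ξ})) =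
      etaSharp ξ i := by
  ext x
  rfl

omit [CharP (∀ i, V i) p] [PerfectRing (∀ i, V i) p] [∀ i, CharP (V i) p] [∀ i, PerfectRing (V i) p]
  [∀ i, IsDomain (V i)] in
theorem mem_etaSharp (i : I) (x) : x ∈ (etaSharp ξ i).asIdeal ↔
    K148.Prim.sharpMap ξ (Pi.evalRingHom V i) x = 0 := Iff.rfl

theorem comap_eta (i : I) : PrimeSpectrum.comap (Pi.evalRingHom V i) ⊥ = (eta i : PrimeSpectrum (∀ i, V i)) := rfl

theorem alpha_etaSharp (φ : LocallyConstant (PrimeSpectrum (∀ i, V i)) M) (i : I) :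
    alpha ξ M φ (etaSharp ξ i) = φ (eta i) := by
  have h1 := alpha_nat ξ (Pi.evalRingHom V i) φ
  have h2 := DFunLike.congr_fun h1 ⊥
  rw [lcMap_apply] at h2
  refine Eq.trans h2.symm ?_
  rw [eq_const_of_isDomain (lcMap (Pi.evalRingHom V i) M φ), alpha_const]
  rfl

omit [CharP (∀ i, V i) p] [PerfectRing (∀ i, V i) p] [∀ i, CharP (V i) p] [∀ i, PerfectRing (V i) p]
  [∀ i, IsDomain (V i)] [AddCommGroup M] in
theorem etaSharp_bijective :
    Function.Bijective (fun (ψ : LocallyConstant (PrimeSpectrum (WittVector p (∀ i, V i) ⧸ span {ξ})) M) (i : I) =>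
      ψ (etaSharp ξ i)) := by
  have h1 : IdemBij (sharpPi ξ).toRingHom := by
    constructor
    · intro e he
      refine ⟨(sharpPi ξ).symm e, by rw [← map_mul, he], (sharpPi ξ).apply_symm_apply e⟩
    · intro r r' _ _ h
      exact (sharpPi ξ).injective h
  have h2 := comap_bijective_of_idemBij (M := M) h1
  constructor
  · intro ψ ψ' h
    refine h2.1 (eq_of_eta' _ _ fun i => ?_)
    exact congrFun h i
  · intro φ
    obtain ⟨ψ, hψ⟩ := h2.2 (ext (V := fun i => WittVector p (V i) ⧸ span {WittVector.map (Pi.evalRingHom V i) ξ}) φ)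
    refine ⟨ψ, funext fun i => ?_⟩
    have h3 := DFunLike.congr_fun hψ (eta i)
    exact h3.trans (ext_eta φ i)

omit [AddCommGroup M] in
theorem eta_bijective :
    Function.Bijective (fun (φ : LocallyConstant (PrimeSpectrum (∀ i, V i)) M) (i : I) => φ (eta i)) := by
  constructor
  · intro φ φ' h
    exact eq_of_eta' _ _ fun i => congrFun h i
  · intro φ
    exact ⟨ext φ, funext fun i => ext_eta φ i⟩

theorem alpha_bijective : Function.Bijective (alpha ξ M : LocallyConstant (PrimeSpectrum (∀ i, V i)) M → _) := by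
  have h1 := etaSharp_bijective (M := M) ξ
  have h2 := eta_bijective (V := V) (M := M)
  have h3 : (fun (ψ : LocallyConstant (PrimeSpectrum (WittVector p (∀ i, V i) ⧸ span {ξ})) M) (i : I) =>
      ψ (etaSharp ξ i)) ∘ (alpha ξ M) = fun φ i => φ (eta i) := by
    funext φ i
    exact alpha_etaSharp ξ φ i
  rw [← h3] at h2
  exact (Function.Bijective.of_comp_iff' h1 _).1 h2

omit [CharP (∀ i, V i) p] [PerfectRing (∀ i, V i) p] [∀ i, CharP (V i) p] [∀ i, PerfectRing (V i) p]
  [∀ i, IsDomain (V i)] [Finite M] in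
/-- A locally constant function on `Spec T♯` vanishes off `V(x)` iff it does so at the generic points. -/
theorem vanish_iff_etaSharp {J : Type*} (y : J → WittVector p (∀ i, V i) ⧸ span {ξ})
    (ψ : LocallyConstant (PrimeSpectrum (WittVector p (∀ i, V i) ⧸ span {ξ})) M) :
    (∀ j (q : PrimeSpectrum (WittVector p (∀ i, V i) ⧸ span {ξ})), y j ∉ q.asIdeal → ψ q = 0) ↔
      ∀ j i, K148.Prim.sharpMap ξ (Pi.evalRingHom V i) (y j) ≠ 0 → ψ (etaSharp ξ i) = 0 := by
  constructor
  · intro h j i hi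
    exact h j _ hi
  · intro h j q hq
    have h1 : IsOpen {r : PrimeSpectrum (WittVector p (∀ i, V i) ⧸ span {ξ}) | y j ∉ r.asIdeal ∧ ψ r = ψ q} :=
      (PrimeSpectrum.basicOpen (y j)).isOpen.inter (ψ.isLocallyConstant.isOpen_fiber _)
    have h2 := h1.preimage (PrimeSpectrum.continuous_comap (sharpPi ξ).toRingHom)
    obtain ⟨q', hq'⟩ : ∃ q' : PrimeSpectrum (∀ i, WittVector p (V i) ⧸ span {WittVector.map (Pi.evalRingHom V i) ξ}),
        PrimeSpectrum.comap (sharpPi ξ).toRingHom q' = q :=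
      ⟨PrimeSpectrum.comapEquiv (sharpPi ξ) q, (PrimeSpectrum.comapEquiv (sharpPi ξ)).symm_apply_apply q⟩
    obtain ⟨i, hi1, hi2⟩ := exists_eta_mem_open _ h2 q' (by
      change y j ∉ (PrimeSpectrum.comap (sharpPi ξ).toRingHom q').asIdeal ∧
        ψ (PrimeSpectrum.comap (sharpPi ξ).toRingHom q') = ψ q
      rw [hq']
      exact ⟨hq, rfl⟩)
    refine hi2.symm.trans (h j i fun h0 => hi1 ?_)
    exact h0

omit [∀ i, CharP (V i) p] [∀ i, PerfectRing (V i) p] [CharP (∀ i, V i) p] [PerfectRing (∀ i, V i) p] [Finite M] in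
/-- A locally constant function on `Spec T` vanishes off `V(x)` iff it does so at the generic points. -/
theorem vanish_iff_eta {J : Type*} (x : J → ∀ i, V i) (φ : LocallyConstant (PrimeSpectrum (∀ i, V i)) M) :
    (∀ j (q : PrimeSpectrum (∀ i, V i)), x j ∉ q.asIdeal → φ q = 0) ↔ ∀ j i, x j i ≠ 0 → φ (eta i) = 0 := by
  constructor
  · intro h j i hi
    exact h j _ hi
  · intro h j q hq
    have h1 : IsOpen {r : PrimeSpectrum (∀ i, V i) | x j ∉ r.asIdeal ∧ φ r = φ q} :=
      (PrimeSpectrum.basicOpen (x j)).isOpen.inter (φ.isLocallyConstant.isOpen_fiber _)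
    obtain ⟨i, hi1, hi2⟩ := exists_eta_mem_open _ h1 q ⟨hq, rfl⟩
    exact hi2.symm.trans (h j i fun h0 => hi1 h0)

/-- `alpha` restricts to a bijection between the functions vanishing off `V(x)` and those vanishing off `V(x♯)`. -/
theorem alpha_vanish_iff {J : Type*} (x : J → ∀ i, V i)
    (hsh : ∀ i (b : V i), K658.UntiltVal.sh (WittVector.map (Pi.evalRingHom V i) ξ) b = 0 ↔ b = 0)
    (φ : LocallyConstant (PrimeSpectrum (∀ i, V i)) M) :
    (∀ j (q : PrimeSpectrum (WittVector p (∀ i, V i) ⧸ span {ξ})),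
      K658.UntiltVal.sh ξ (x j) ∉ q.asIdeal → alpha ξ M φ q = 0) ↔
      ∀ j (q : PrimeSpectrum (∀ i, V i)), x j ∉ q.asIdeal → φ q = 0 := by
  rw [vanish_iff_etaSharp, vanish_iff_eta]
  refine forall_congr' fun j => forall_congr' fun i => ?_
  rw [alpha_etaSharp]
  have h1 : K148.Prim.sharpMap ξ (Pi.evalRingHom V i) (K658.UntiltVal.sh ξ (x j)) =
      K658.UntiltVal.sh (WittVector.map (Pi.evalRingHom V i) ξ) (x j i) := by
    rw [K658.UntiltVal.sh_apply, K658.UntiltVal.sh_apply, K148.Prim.sharpMap_mk, WittVector.map_teichmuller]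
    rfl
  rw [h1]
  simp only [ne_eq, hsh]

end Prod

end Groth.Agent.EtDual.K143.PV
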