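import Groth.Agent.EtDual.K143.AlphaMain
import Groth.Agent.EtDual.K608.Final

/-!
# The third input of `K608.Final.puncWeak'`
-/

set_option autoImplicit false
set_option backward.isDefEq.respectTransparency false
set_option backward.isDefEq.respectTransparency.types false

universe u

open CategoryTheory CategoryTheory.Limits AlgebraicGeometry Opposite Ideal
open K343.Basic K781.Desc K152.Fib K148.Perf K933.PerfCat K933.Main K855.HomCmp

noncomputable section

namespace Groth.Agent.EtDual.K143.PV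

attribute [local instance] isGrothendieckAbelian_AbK

theorem isCompact_U0 (d : ℕ) : IsCompact ((K608.Final.U0.{u} d : (Spec (Pd.{u} d)).Opens) : Set (Spec (Pd.{u} d))) := by
  have h := (PrimeSpectrum.isCompact_isOpen_iff (R := MvPolynomial (Fin d) (ULift.{u} ℤ))
    (s := (PrimeSpectrum.zeroLocus (Set.range (MvPolynomial.X : Fin d → MvPolynomial (Fin d) (ULift.{u} ℤ))))ᶜ)).2
    ⟨(Set.finite_range (MvPolynomial.X : Fin d → MvPolynomial (Fin d) (ULift.{u} ℤ))).toFinset, by
      rw [Set.Finite.coe_toFinset]⟩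
  exact h.1

instance quasiCompact_U0 (d : ℕ) : QuasiCompact (K608.Final.U0.{u} d).ι := by
  have : CompactSpace (K608.Final.U0.{u} d) := isCompact_iff_compactSpace.1 (isCompact_U0 d)
  infer_instance

theorem range_U0 (d : ℕ) : Set.range (K608.Final.U0.{u} d).ι =
    {q : Spec (Pd.{u} d) | ∃ i, (MvPolynomial.X i : MvPolynomial (Fin d) (ULift.{u} ℤ)) ∉ q.asIdeal} := by
  rw [Scheme.Opens.range_ι]
  ext q
  change ¬ (Set.range (MvPolynomial.X : Fin d → MvPolynomial (Fin d) (ULift.{u} ℤ)) ⊆ q.asIdeal) ↔ _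
  rw [Set.range_subset_iff]
  push Not
  rfl

/-- **The third input.** -/
theorem alphaIn (ℓ : ℕ) [NeZero ℓ] (d : ℕ) : K608.Final.AlphaIn.{u} ℓ d := by
  intro p _ B₀ _ ξ hξ x
  have hfin : Finite (ULift.{u + 1} (ZMod ℓ)) := inferInstance
  exact ⟨alphaMain (range_U0 d) (ULift.{u + 1} (ZMod ℓ)) ξ x (K608.Final.J ℓ d),
    fun T => hgood (range_U0 d) (ULift.{u + 1} (ZMod ℓ)) ξ x (K608.Final.J ℓ d) hξ (K608.Final.hv ℓ d) T⟩

end Groth.Agent.EtDual.K143.PV
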