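import Groth.Agent.EtDual.K143.Alpha
import Groth.Agent.EtDual.K148.Perf

/-!
# The comparison map `LC(Spec B, M) → LC(Spec W(B)/ξ, M)`, `B` perfect (`IsPerf p B`, the zero ring allowed)
-/

set_option autoImplicit false

universe u v w

open WittVector Ideal K148.Perf

namespace Groth.Agent.EtDual.K143.PV

variable {p : ℕ} [hp : Fact p.Prime]

section

variable {B : Type u} [CommRing B] (hB : IsPerf p B) {M : Type w} [AddCommGroup M]

include hB in
theorem idemBij_constantCoeffP : IdemBij (constantCoeff : WittVector p B →+* B) := by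
  rcases hB.elim with hs | ⟨_, _⟩
  · exact ⟨fun e _ => ⟨0, zero_mul 0, Subsingleton.elim _ _⟩, fun r r' _ _ _ => Subsingleton.elim _ _⟩
  · exact idemBij_constantCoeff

include hB in
theorem isReducedP : IsReduced B := ⟨fun _ ⟨_, hn⟩ => hB.eq_zero_of_pow hn⟩

/-- `LC(Spec W(B), M) ≃ LC(Spec B, M)`. -/
noncomputable def wEquivP (M : Type w) [AddCommGroup M] [Finite M] :
    LocallyConstant (PrimeSpectrum (WittVector p B)) M ≃+ LocallyConstant (PrimeSpectrum B) M :=
  AddEquiv.ofBijective (lcMap (constantCoeff : WittVector p B →+* B) M)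
    (comap_bijective_of_idemBij (idemBij_constantCoeffP hB))

/-- The comparison map. -/
noncomputable def alphaP (ξ : WittVector p B) (M : Type w) [AddCommGroup M] [Finite M] :
    LocallyConstant (PrimeSpectrum B) M →+ LocallyConstant (PrimeSpectrum (WittVector p B ⧸ span {ξ})) M :=
  (lcMap (Ideal.Quotient.mk (span {ξ})) M).comp (wEquivP hB M).symm.toAddMonoidHom

variable [Finite M]

theorem alphaP_apply (ξ : WittVector p B) (ψ : LocallyConstant (PrimeSpectrum (WittVector p B)) M) :
    alphaP hB ξ M (lcMap constantCoeff M ψ) = lcMap (Ideal.Quotient.mk (span {ξ})) M ψ := by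
  change lcMap (Ideal.Quotient.mk (span {ξ})) M ((wEquivP hB M).symm (wEquivP hB M ψ)) = _
  rw [AddEquiv.symm_apply_apply]

include hB in
theorem exists_liftP (φ : LocallyConstant (PrimeSpectrum B) M) :
    ∃ ψ : LocallyConstant (PrimeSpectrum (WittVector p B)) M, lcMap constantCoeff M ψ = φ :=
  ⟨(wEquivP hB M).symm φ, (wEquivP hB M).apply_symm_apply φ⟩

theorem alphaP_const (ξ : WittVector p B) (m : M) :
    alphaP hB ξ M (LocallyConstant.const _ m) = LocallyConstant.const _ m :=
  alphaP_apply hB ξ (LocallyConstant.const _ m)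

theorem alphaP_nat {B' : Type v} [CommRing B'] (hB' : IsPerf p B') (ξ : WittVector p B) (f : B →+* B')
    (φ : LocallyConstant (PrimeSpectrum B) M) :
    alphaP hB' (WittVector.map f ξ) M (lcMap f M φ) = lcMap (K148.Prim.sharpMap ξ f) M (alphaP hB ξ M φ) := by
  obtain ⟨ψ, rfl⟩ := exists_liftP hB φ
  have h1 : lcMap f M (lcMap (constantCoeff : WittVector p B →+* B) M ψ) =
      lcMap (constantCoeff : WittVector p B' →+* B') M (lcMap (WittVector.map f) M ψ) := by
    rw [← lcMap_comp, ← lcMap_comp]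
    congr 1
  rw [h1, alphaP_apply, alphaP_apply, ← lcMap_comp, ← lcMap_comp]
  congr 1

/-- `alphaP` preserves "vanishing on `D(b)`". -/
theorem alphaP_vanish (ξ : WittVector p B) (φ : LocallyConstant (PrimeSpectrum B) M) (b : B)
    (h : ∀ q : PrimeSpectrum B, b ∉ q.asIdeal → φ q = 0)
    (q : PrimeSpectrum (WittVector p B ⧸ span {ξ})) (hq : K658.UntiltVal.sh ξ b ∉ q.asIdeal) :
    alphaP hB ξ M φ q = 0 := by
  obtain ⟨ψ, rfl⟩ := exists_liftP hB φ
  rw [alphaP_apply, lcMap_apply]
  refine vanish_lift (f := (constantCoeff : WittVector p B →+* B)) b (teichmuller p b) ?_ (isReducedP hB) ψ h _ hq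
  intro r hr hrb
  have h1 : r = teichmuller p (constantCoeff r : B) :=
    (idemBij_constantCoeffP hB).2 _ _ hr (by rw [← map_mul, ← map_mul, hr]) (teichmuller_coeff_zero p _).symm
  rw [h1, ← map_mul, hrb, teichmuller_zero]

end

section Prod

variable {I : Type v} {V : I → Type u} [∀ i, CommRing (V i)] [∀ i, IsDomain (V i)]
  {M : Type w} [AddCommGroup M] [Finite M]
  (hT : IsPerf p (∀ i, V i)) (hV : ∀ i, IsPerf p (V i))
  (ξ : WittVector p (∀ i, V i))
  [∀ i, IsDomain (WittVector p (V i) ⧸ span {WittVector.map (Pi.evalRingHom V i) ξ})]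

include hV in
theorem alphaP_etaSharp (φ : LocallyConstant (PrimeSpectrum (∀ i, V i)) M) (i : I) :
    alphaP hT ξ M φ (etaSharp ξ i) = φ (eta i) := by
  have h1 := alphaP_nat hT (hV i) ξ (Pi.evalRingHom V i) φ
  have h2 := DFunLike.congr_fun h1 ⊥
  rw [lcMap_apply] at h2
  refine Eq.trans h2.symm ?_
  rw [eq_const_of_isDomain (lcMap (Pi.evalRingHom V i) M φ), alphaP_const]
  rfl

include hV in
theorem alphaP_bijective : Function.Bijective (alphaP hT ξ M : LocallyConstant (PrimeSpectrum (∀ i, V i)) M → _) := by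
  have h1 := etaSharp_bijective (M := M) ξ
  have h2 := eta_bijective (V := V) (M := M)
  have h3 : (fun (ψ : LocallyConstant (PrimeSpectrum (WittVector p (∀ i, V i) ⧸ span {ξ})) M) (i : I) =>
      ψ (etaSharp ξ i)) ∘ (alphaP hT ξ M) = fun φ i => φ (eta i) := by
    funext φ i
    exact alphaP_etaSharp hT hV ξ φ i
  rw [← h3] at h2
  exact (Function.Bijective.of_comp_iff' h1 _).1 h2

include hV in
/-- `alphaP` restricts to a bijection between the functions vanishing off `V(x)` and those vanishing off `V(x♯)`. -/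
theorem alphaP_vanish_iff {J : Type*} (x : J → ∀ i, V i)
    (hsh : ∀ i (b : V i), K658.UntiltVal.sh (WittVector.map (Pi.evalRingHom V i) ξ) b = 0 ↔ b = 0)
    (φ : LocallyConstant (PrimeSpectrum (∀ i, V i)) M) :
    (∀ j (q : PrimeSpectrum (WittVector p (∀ i, V i) ⧸ span {ξ})),
      K658.UntiltVal.sh ξ (x j) ∉ q.asIdeal → alphaP hT ξ M φ q = 0) ↔
      ∀ j (q : PrimeSpectrum (∀ i, V i)), x j ∉ q.asIdeal → φ q = 0 := by
  rw [vanish_iff_etaSharp, vanish_iff_eta]
  refine forall_congr' fun j => forall_congr' fun i => ?_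
  rw [alphaP_etaSharp hT hV]
  have h1 : K148.Prim.sharpMap ξ (Pi.evalRingHom V i) (K658.UntiltVal.sh ξ (x j)) =
      K658.UntiltVal.sh (WittVector.map (Pi.evalRingHom V i) ξ) (x j i) := by
    rw [K658.UntiltVal.sh_apply, K658.UntiltVal.sh_apply, K148.Prim.sharpMap_mk, WittVector.map_teichmuller]
    rfl
  rw [h1]
  simp only [ne_eq, hsh]

end Prod

end Groth.Agent.EtDual.K143.PV
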