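import Groth.Agent.EtDual.K143.KfZero
import Groth.Agent.EtDual.K143.AlphaP
import Groth.Agent.EtDual.K933.Main
import Groth.Agent.EtDual.K147.PerfX

/-!
# The comparison map between the `H⁰`-presheaves and the good objects (node (7))

* `alphaMain` : `((F2 p x).op ⋙ spU _).op ⋙ K.homology 0 ⟶ ((F1 ξ x).op ⋙ spU _).op ⋙ K.homology 0`,
  `K = KF e (PC J.cochainComplex)`;
* `hgood` : the local hypothesis of `K933.Main.main`.
-/

set_option autoImplicit false
set_option backward.isDefEq.respectTransparency false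
set_option backward.isDefEq.respectTransparency.types false

universe w v u

open CategoryTheory CategoryTheory.Limits AlgebraicGeometry Opposite Ideal
open Groth.Agent.Sga4B.ConstLC Groth.Agent.Etrest.BigEtSite K343.Basic K343.Res
open Groth.Agent.Flat2E.AIC1 K781.Desc K152.Fib K148.Perf K933.PerfCat K933.Main

noncomputable section

namespace Groth.Agent.EtDual.K143.PV

variable {p : ℕ} [hp : Fact p.Prime]

section Ring

variable {M : Type w} [AddCommGroup M] [Finite M]

theorem alphaP_nat' {B : Type u} [CommRing B] (hB : IsPerf p B) {B' : Type v} [CommRing B'] (hB' : IsPerf p B')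
    (η : WittVector p B) (η' : WittVector p B') (f : B →+* B') (h : WittVector.map f η = η')
    (φ : LocallyConstant (PrimeSpectrum B) M) :
    alphaP hB' η' M (lcMap f M φ) = lcMap (Ideal.quotientMap (span {η'}) (WittVector.map f)
      (by rw [Ideal.span_singleton_le_iff_mem, Ideal.mem_comap, h]; exact Ideal.mem_span_singleton_self _)) M
        (alphaP hB η M φ) := by
  subst h
  exact alphaP_nat hB hB' η f φ

omit [Finite M] in
theorem lcMap_bijective_equiv {R : Type u} {S : Type v} [CommRing R] [CommRing S] (E : R ≃+* S) :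
    Function.Bijective (lcMap E.toRingHom M) := by
  refine Function.bijective_iff_has_inverse.2 ⟨lcMap E.symm.toRingHom M, fun φ => ?_, fun φ => ?_⟩
  · ext q
    change φ (PrimeSpectrum.comap E.toRingHom (PrimeSpectrum.comap E.symm.toRingHom q)) = φ q
    congr 1
    exact (PrimeSpectrum.comapEquiv E).symm_apply_apply q
  · ext q
    change φ (PrimeSpectrum.comap E.symm.toRingHom (PrimeSpectrum.comap E.toRingHom q)) = φ q
    congr 1
    exact (PrimeSpectrum.comapEquiv E).apply_symm_apply q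

omit [Finite M] in
theorem vanish_equiv {R : Type u} {S : Type v} [CommRing R] [CommRing S] (E : R ≃+* S) {J : Type*} (x : J → R)
    (φ : LocallyConstant (PrimeSpectrum R) M) :
    (∀ j (q : PrimeSpectrum R), x j ∉ q.asIdeal → φ q = 0) ↔
      ∀ j (q : PrimeSpectrum S), E (x j) ∉ q.asIdeal → lcMap E.toRingHom M φ q = 0 := by
  constructor
  · intro h j q hq
    exact h j (PrimeSpectrum.comap E.toRingHom q) hq
  · intro h j q hq
    have h1 := h j (PrimeSpectrum.comap E.symm.toRingHom q) (by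
      change ¬ (E.symm (E (x j)) ∈ q.asIdeal)
      rwa [E.symm_apply_apply])
    have h2 : PrimeSpectrum.comap E.toRingHom (PrimeSpectrum.comap E.symm.toRingHom q) = q :=
      (PrimeSpectrum.comapEquiv E).symm_apply_apply q
    rw [lcMap_apply, h2] at h1
    exact h1

end Ring

section Good

/-- The ring isomorphism `W(B)/ξ ≃ W(B')/ξ'` induced by `ε : B ≃ B'`. -/
def shEquiv {B : Type u} [CommRing B] {B' : Type v} [CommRing B'] (η : WittVector p B) (ε : B ≃+* B') :
    (WittVector p B ⧸ span {η}) ≃+* (WittVector p B' ⧸ span {WittVector.map ε.toRingHom η}) :=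
  RingEquiv.ofBijective (K148.Prim.sharpMap η ε.toRingHom) (by
    have hcomp : ∀ y : WittVector p B, WittVector.map ε.symm.toRingHom (WittVector.map ε.toRingHom y) = y := by
      intro y
      ext n
      rw [WittVector.map_coeff, WittVector.map_coeff]
      exact ε.symm_apply_apply _
    have hcomp' : ∀ y : WittVector p B', WittVector.map ε.toRingHom (WittVector.map ε.symm.toRingHom y) = y := by
      intro y
      ext n
      rw [WittVector.map_coeff, WittVector.map_coeff]
      exact ε.apply_symm_apply _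
    constructor
    · rw [injective_iff_map_eq_zero]
      intro y hy
      obtain ⟨y, rfl⟩ := Ideal.Quotient.mk_surjective y
      rw [K148.Prim.sharpMap_mk, Ideal.Quotient.eq_zero_iff_mem, Ideal.mem_span_singleton] at hy
      obtain ⟨z, hz⟩ := hy
      rw [Ideal.Quotient.eq_zero_iff_mem, Ideal.mem_span_singleton]
      refine ⟨WittVector.map ε.symm.toRingHom z, ?_⟩
      have h1 := congrArg (WittVector.map ε.symm.toRingHom) hz
      rw [map_mul, hcomp, hcomp] at h1
      exact h1
    · intro y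
      obtain ⟨y, rfl⟩ := Ideal.Quotient.mk_surjective y
      exact ⟨Ideal.Quotient.mk _ (WittVector.map ε.symm.toRingHom y), by rw [K148.Prim.sharpMap_mk, hcomp']⟩)

variable {M : Type w} [AddCommGroup M] [Finite M] {B : Type u} [CommRing B] (hB : IsPerf p B)
  (ξ : WittVector p B) {I : Type v} {V : I → Type u} [∀ i, CommRing (V i)] [∀ i, IsDomain (V i)]
  (ε : B ≃+* ∀ i, V i) (hV : ∀ i, IsPerf p (V i))
  [∀ i, IsDomain (WittVector p (V i) ⧸ span {WittVector.map (Pi.evalRingHom V i) (WittVector.map ε.toRingHom ξ)})]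

include ε hV in
theorem alphaP_bijective_equiv : Function.Bijective (alphaP hB ξ M) := by
  have hT : IsPerf p (∀ i, V i) := hB.of_ringEquiv ε
  have h1 := alphaP_bijective (M := M) hT hV (WittVector.map ε.toRingHom ξ)
  have h2 : (alphaP hT (WittVector.map ε.toRingHom ξ) M) ∘ (lcMap ε.toRingHom M) =
      (lcMap (shEquiv ξ ε).toRingHom M) ∘ (alphaP hB ξ M) := by
    funext φ
    exact alphaP_nat hB hT ξ ε.toRingHom φ
  have h3 := h1.comp (lcMap_bijective_equiv (M := M) ε)
  rw [h2] at h3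
  exact (Function.Bijective.of_comp_iff' (lcMap_bijective_equiv (M := M) (shEquiv ξ ε)) _).1 h3

include hV in
theorem alphaP_vanish_iff_equiv {J : Type*} (x : J → B)
    (hsh : ∀ i (b : V i), K658.UntiltVal.sh (WittVector.map (Pi.evalRingHom V i)
      (WittVector.map ε.toRingHom ξ)) b = 0 ↔ b = 0)
    (φ : LocallyConstant (PrimeSpectrum B) M) :
    (∀ j (q : PrimeSpectrum (WittVector p B ⧸ span {ξ})),
      K658.UntiltVal.sh ξ (x j) ∉ q.asIdeal → alphaP hB ξ M φ q = 0) ↔
      ∀ j (q : PrimeSpectrum B), x j ∉ q.asIdeal → φ q = 0 := by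
  have hT : IsPerf p (∀ i, V i) := hB.of_ringEquiv ε
  have h1 := alphaP_vanish_iff (M := M) hT hV (WittVector.map ε.toRingHom ξ) (fun j => ε (x j)) hsh
    (lcMap ε.toRingHom M φ)
  rw [vanish_equiv ε, vanish_equiv (shEquiv ξ ε), ← h1]
  have h2 : alphaP hT (WittVector.map ε.toRingHom ξ) M (lcMap ε.toRingHom M φ) =
      lcMap (shEquiv ξ ε).toRingHom M (alphaP hB ξ M φ) := alphaP_nat hB hT ξ ε.toRingHom φ
  rw [h2]
  have h3 : ∀ j, shEquiv ξ ε (K658.UntiltVal.sh ξ (x j)) =
      K658.UntiltVal.sh (WittVector.map ε.toRingHom ξ) (ε (x j)) := by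
    intro j
    change K148.Prim.sharpMap ξ ε.toRingHom (K658.UntiltVal.sh ξ (x j)) = _
    rw [K658.UntiltVal.sh_apply, K658.UntiltVal.sh_apply, K148.Prim.sharpMap_mk, WittVector.map_teichmuller]
    rfl
  simp only [h3]

end Good

section Cat

variable {d : ℕ} {Y₀ : Scheme.{u}} {e : Y₀ ⟶ Spec (Pd.{u} d)}
  (he : Set.range e = {q : Spec (Pd.{u} d) | ∃ i, (MvPolynomial.X i : MvPolynomial (Fin d) (ULift.{u} ℤ)) ∉ q.asIdeal})
  (A : Type (u + 1)) [AddCommGroup A]

include he in
theorem mem_lvSub_ptS {R : Type u} [CommRing R] (g : Fin d → R) (φ : LocallyConstant (PrimeSpectrum R) A) :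
    φ ∈ lvSub (Spec (Pd.{u} d)) (Set.range e) A (ptS R g) ↔
      ∀ i (q : PrimeSpectrum R), g i ∉ q.asIdeal → φ q = 0 := by
  rw [mem_lvSub, he]
  have h1 : ∀ (q : PrimeSpectrum R) (i : Fin d),
      ((MvPolynomial.X i : MvPolynomial (Fin d) (ULift.{u} ℤ)) ∉ (PrimeSpectrum.comap (evP g) q).asIdeal ↔
        g i ∉ q.asIdeal) := by
    intro q i
    change ¬ (evP g (MvPolynomial.X i) ∈ q.asIdeal) ↔ _
    rw [evP_X]
  constructor
  · intro h i q hq
    exact h q ⟨i, (h1 q i).2 hq⟩
  · rintro h q ⟨i, hi⟩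
    exact h i q ((h1 q i).1 hi)

variable [Finite A] {B₀ : CommRingCat.{u}} (ξ : WittVector p (B₀ : Type u)) (x : Fin d → B₀)

/-- `LV(B, x) → LV(W(B)/ξ, [x])`. -/
def alphaObj (B : Perf p B₀) :
    (LV (Spec (Pd.{u} d)) (Set.range e) A).obj (op (ptS B.obj.right (fun i => B.obj.hom.hom (x i)))) ⟶
      (LV (Spec (Pd.{u} d)) (Set.range e) A).obj (op (ptS (shR ξ B) (tx ξ x B))) :=
  AddCommGrpCat.ofHom
    { toFun := fun φ => ⟨alphaP B.property (xi ξ B) A φ.1, (mem_lvSub_ptS he A _ _).2 fun i q hq =>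
        alphaP_vanish B.property (xi ξ B) φ.1 (B.obj.hom.hom (x i))
          ((mem_lvSub_ptS he A _ _).1 φ.2 i) q (by
            rw [tx_eq] at hq
            exact hq)⟩
      map_zero' := Subtype.ext (map_zero (alphaP B.property (xi ξ B) A))
      map_add' := fun a b => Subtype.ext (map_add (alphaP B.property (xi ξ B) A) a.1 b.1) }

theorem alphaObj_nat {B B' : Perf p B₀} (f : B ⟶ B')
    (φ : lvSub (Spec (Pd.{u} d)) (Set.range e) A (ptS B.obj.right (fun i => B.obj.hom.hom (x i)))) :
    (alphaObj he A ξ x B').hom ((LV (Spec (Pd.{u} d)) (Set.range e) A).map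
        ((spU (Pd.{u} d)).map ((F2 p x).map f).op).op φ) =
      (LV (Spec (Pd.{u} d)) (Set.range e) A).map ((spU (Pd.{u} d)).map ((F1 ξ x).map f).op).op
        ((alphaObj he A ξ x B).hom φ) := by
  apply Subtype.ext
  exact alphaP_nat' B.property B'.property (xi ξ B) (xi ξ B') f.hom.right.hom (xi_map ξ f) φ.1

/-- The comparison map. -/
def alpha0 : ((F2 p x).op ⋙ spU _).op ⋙ LV (Spec (Pd.{u} d)) (Set.range e) A ⟶
    ((F1 ξ x).op ⋙ spU _).op ⋙ LV (Spec (Pd.{u} d)) (Set.range e) A where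
  app T := alphaObj he A ξ x T.unop.unop
  naturality T T' f := by
    ext φ
    exact alphaObj_nat he A ξ x f.unop.unop φ

attribute [local instance] isGrothendieckAbelian_AbK

variable {K : GrothendieckTopology Scheme.{u}} [Good K] [ContK K (Spec (Pd.{u} d))]
  (J : InjectiveResolution ((aPullK K (Spec (Pd.{u} d))).obj
    ((constantSheaf (Spec (Pd.{u} d)).smallEtaleTopology AddCommGrpCat.{u + 1}).obj (AddCommGrpCat.of A))))
  [Mono e]

/-- The comparison map between the `H⁰`-presheaves. -/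
def alphaMain :
    ((F2 p x).op ⋙ spU _).op ⋙ (KF e (PC J.cochainComplex)).homology 0 ⟶
      ((F1 ξ x).op ⋙ spU _).op ⋙ (KF e (PC J.cochainComplex)).homology 0 :=
  Functor.whiskerLeft _ (kfZeroIso e A J).hom ≫ alpha0 he A ξ x ≫ Functor.whiskerLeft _ (kfZeroIso e A J).inv

theorem factor {O : Type u} [CommRing O] [IsDomain O] [ValuationRing O] (hO : IsAIC O) (hP : IsPerf p O)
    (η : WittVector p O) (hη : K148.Prim.IsDist η) (w : O) (hw : η.coeff 0 = w) (hA : K617.VC.IsAicc O w) :
    ∃ _ : IsDomain (WittVector p O ⧸ span {η}), ValuationRing (WittVector p O ⧸ span {η}) ∧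
      IsAIC (WittVector p O ⧸ span {η}) ∧ ∀ b : O, K658.UntiltVal.sh η b = 0 ↔ b = 0 := by
  subst hw
  have h1 : CharP O p := hP.charP
  have h2 : PerfectRing O p := hP.perfectRing
  have h3 := hA.complete
  exact ⟨K658.UntiltVal.isDomain hη hA.nonunit, K658.UntiltVal.valuationRing hη hA.nonunit,
    K658.UntiltVal.isAIC hη hA.nonunit hO, K658.UntiltVal.sh_eq_zero_iff hη hA.nonunit⟩

theorem isIso_alphaMain_app (T : (PC p B₀)ᵒᵖ) (h : IsIso (alphaObj he A ξ x T.unop.unop)) :
    IsIso ((alphaMain he A ξ x J).app T) := by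
  have h1 : IsIso ((alpha0 he A ξ x).app T) := h
  have h2 : (alphaMain he A ξ x J).app T =
      (kfZeroIso e A J).hom.app _ ≫ (alpha0 he A ξ x).app T ≫ (kfZeroIso e A J).inv.app _ := rfl
  rw [h2]
  have i1 : IsIso ((kfZeroIso e A J).hom.app (((F2 p x).op ⋙ spU _).op.obj T)) := inferInstance
  have i2 : IsIso ((kfZeroIso e A J).inv.app (((F1 ξ x).op ⋙ spU _).op.obj T)) := inferInstance
  exact @IsIso.comp_isIso _ _ _ _ _ _ _ i1 (@IsIso.comp_isIso _ _ _ _ _ _ _ h1 i2)

omit [Mono e] in
theorem isIso_alphaObj (B : Perf p B₀) (hbij : Function.Bijective (alphaP B.property (xi ξ B) A))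
    (hvan : ∀ φ : LocallyConstant (PrimeSpectrum B.obj.right) A,
      (∀ j (q : PrimeSpectrum (WittVector p (B.obj.right : Type u) ⧸ span {xi ξ B})),
        K658.UntiltVal.sh (xi ξ B) (B.obj.hom.hom (x j)) ∉ q.asIdeal → alphaP B.property (xi ξ B) A φ q = 0) ↔
      ∀ j (q : PrimeSpectrum B.obj.right), B.obj.hom.hom (x j) ∉ q.asIdeal → φ q = 0) :
    IsIso (alphaObj he A ξ x B) := by
  refine (ConcreteCategory.isIso_iff_bijective _).2 ⟨fun a b hab => ?_, fun ψ => ?_⟩
  · apply Subtype.ext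
    apply hbij.1
    exact congrArg Subtype.val hab
  · obtain ⟨φ, hφ⟩ := hbij.2 ψ.1
    have h1 : φ ∈ lvSub (Spec (Pd.{u} d)) (Set.range e) A (ptS B.obj.right (fun i => B.obj.hom.hom (x i))) := by
      rw [mem_lvSub_ptS he]
      rw [← hvan]
      intro j q hq
      rw [hφ]
      refine (mem_lvSub_ptS he A _ _).1 ψ.2 j q ?_
      rw [tx_eq]
      exact hq
    exact ⟨⟨φ, h1⟩, Subtype.ext hφ⟩

variable [IsOpenImmersion e] [QuasiCompact e]

/-- The local hypothesis of `K933.Main.main`. -/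
theorem hgood (hξ : K148.Prim.IsDist ξ)
    (hv : ∀ (V : Over (Spec (Pd.{u} d))) (q : ℕ), 0 < q → IsZero (((uResK K V.hom).rightDerived q).obj
      ((aPullK K (Spec (Pd.{u} d))).obj ((constantSheaf (Spec (Pd.{u} d)).smallEtaleTopology
        AddCommGrpCat.{u + 1}).obj (AddCommGrpCat.of A)))))
    (T : PC p B₀) : ∃ (X : PC p B₀) (f : X ⟶ T), tcov (ξ.coeff 0) f ∧
      (∀ i > 0, IsZero (((KF e (PC J.cochainComplex)).homology i).obj
        (op ((spU _).obj (op ((F2 p x).obj X.unop)))))) ∧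
      (∀ i > 0, IsZero (((KF e (PC J.cochainComplex)).homology i).obj
        (op ((spU _).obj (op ((F1 ξ x).obj X.unop)))))) ∧
      IsIso ((alphaMain he A ξ x J).app (op X)) := by
  obtain ⟨I, V, _, _, _, X, f, ε, hf, hAIC, hAicc, hP⟩ := K147.VR.exists_tcov (p := p) (ξ.coeff 0) T
  have hd : ∀ i, K148.Prim.IsDist (WittVector.map (Pi.evalRingHom V i)
      (WittVector.map ε.toRingHom (xi ξ X.unop))) := fun i =>
    isDist_map (isDist_map (isDist_map hξ _) _) _
  have hc : ∀ i, (WittVector.map (Pi.evalRingHom V i) (WittVector.map ε.toRingHom (xi ξ X.unop))).coeff 0 =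
      ε (X.unop.obj.hom.hom (ξ.coeff 0)) i := by
    intro i
    rw [WittVector.map_coeff, WittVector.map_coeff, WittVector.map_coeff]
    rfl
  have hfac := fun i => factor (hAIC i) (hP i) _ (hd i) _ (hc i) (hAicc i)
  choose hD hVR hAs hsh using hfac
  refine ⟨X, f, hf, fun i hi => ?_, fun i hi => ?_, ?_⟩
  · refine isZero_KF e A J hAIC _ hv ?_ i hi
    exact Scheme.Spec.mapIso ε.symm.toCommRingCatIso.op
  · refine isZero_KF e A J hAs _ hv ?_ i hi
    exact Scheme.Spec.mapIso
      (((shEquiv (xi ξ X.unop) ε).trans (sharpPi _)).symm.toCommRingCatIso).op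
  · refine isIso_alphaMain_app he A ξ x J (op X) ?_
    refine isIso_alphaObj he A ξ x X.unop ?_ ?_
    · exact alphaP_bijective_equiv X.unop.property (xi ξ X.unop) ε hP
    · intro φ
      exact alphaP_vanish_iff_equiv X.unop.property (xi ξ X.unop) ε hP _ hsh φ

end Cat

end Groth.Agent.EtDual.K143.PV
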