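import Groth.Agent.Sga4B.ConstLC
import Groth.Agent.HTop.K343.Topo
import Groth.Agent.HTop.K343.Res
import Groth.Agent.Cohder.RDInt

/-!
# The constant sheaf on the big site is the sheaf of locally constant functions

* `LCS A : Schemeᵒᵖ ⥤ Ab`, `U ↦ LocallyConstant U A`;
* `constBigIso K X A` : for a good topology `K`, the presheaf underlying `a⁻¹ A_X` is `LCS A` restricted to
  the schemes over `X`;
* `homologyZeroIso` : for an injective resolution `I` of a sheaf `G`, the presheaf `H⁰(I(-))` is `G`.
-/

set_option autoImplicit false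
universe w u
open CategoryTheory CategoryTheory.Limits AlgebraicGeometry Opposite
open Groth.Agent.Sga4B.ConstLC Groth.Agent.Etrest.BigEtSite K343.Basic

noncomputable section

namespace Groth.Agent.EtDual.K143.PV

/-- Locally constant functions, as a presheaf on all schemes. -/
def LCS (A : Type (u + 1)) [AddCommGroup A] : Scheme.{u}ᵒᵖ ⥤ AddCommGrpCat.{u + 1} where
  obj U := AddCommGrpCat.of (LocallyConstant U.unop A)
  map f := AddCommGrpCat.ofHom (LocallyConstant.comapAddMonoidHom (cmap f.unop))
  map_id U := by
    ext g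
    rfl
  map_comp f g := by
    ext h
    rfl

/-- Locally constant functions to `A` are continuous functions to the discrete space `A`. -/
def LCSIso (A : Type (u + 1)) [AddCommGroup A]
    [TopologicalSpace A] [DiscreteTopology A] [IsTopologicalAddGroup A] :
    LCS A ≅ continuousMapPresheafAb.{u+1, u} A :=
  NatIso.ofComponents (fun U => AddEquiv.toAddCommGrpIso
    { toFun := fun (f : LocallyConstant U.unop A) => (⟨f, f.continuous⟩ : C(U.unop, A))
      invFun := fun (f : C(U.unop, A)) =>
        ⟨f, (IsLocallyConstant.iff_continuous _).2 f.continuous⟩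
      left_inv := fun f => rfl
      right_inv := fun f => rfl
      map_add' := fun f g => rfl })
    (by intro U V f; rfl)

theorem isSheaf_LCS (A : Type (u + 1)) [AddCommGroup A] :
    Presheaf.IsSheaf Scheme.fpqcTopology (LCS A) := by
  let _ : TopologicalSpace A := ⊥
  have : DiscreteTopology A := ⟨rfl⟩
  have : IsTopologicalAddGroup A := inferInstance
  rw [Presheaf.isSheaf_of_iso_iff (LCSIso A)]
  exact isSheaf_fpqcTopology_continuousMapPresheafAb A

/-- Locally constant functions on the schemes over `X`. -/
abbrev LCov (X : Scheme.{u}) (A : Type (u + 1)) [AddCommGroup A] : (Over X)ᵒᵖ ⥤ AddCommGrpCat.{u + 1} :=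
  (Over.forget X).op ⋙ LCS A

theorem isSheaf_LCov (X : Scheme.{u}) (A : Type (u + 1)) [AddCommGroup A] :
    Presheaf.IsSheaf (JE X) (LCov X A) := by
  have h1 : Presheaf.IsSheaf Scheme.etaleTopology (LCS A) :=
    Presheaf.IsSheaf.of_le (Scheme.etaleTopology_le_proetaleTopology.trans
      Scheme.proetaleTopology_le_fpqcTopology) (isSheaf_LCS A)
  exact (((Over.forget X).sheafPushforwardContinuous _ (JE X)
    Scheme.etaleTopology).obj ⟨LCS A, h1⟩).property

/-- The sheaf of locally constant functions on the big étale site. -/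
def LCE (X : Scheme.{u}) (A : Type (u + 1)) [AddCommGroup A] : AbE X := ⟨LCov X A, isSheaf_LCov X A⟩

/-- The map from the constant presheaf to locally constant functions. -/
def constPreToLCE (X : Scheme.{u}) (A : Type (u + 1)) [AddCommGroup A] :
    (Functor.const (Over X)ᵒᵖ).obj (AddCommGrpCat.of A) ⟶ LCov X A where
  app U := AddCommGrpCat.ofHom
    { toFun := fun a => LocallyConstant.const _ a
      map_zero' := rfl
      map_add' := fun _ _ => rfl }
  naturality U V f := by
    ext a
    rfl

/-- Zariski covering sieves are in `JE`. -/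
theorem mem_JE_of_zariski {X : Scheme.{u}} (U : Over X) (S : Sieve U)
    (h : ∀ x : U.left, ∃ (N : U.left.Opens) (_ : x ∈ N), S (Over.homMk N.ι : Over.mk (N.ι ≫ U.hom) ⟶ U)) :
    S ∈ JE X U := by
  rw [GrothendieckTopology.mem_over_iff]
  apply Scheme.zariskiTopology_le_etaleTopology
  rw [K343.Topo.mem_zariski_iff]
  intro x
  obtain ⟨N, hx, hN⟩ := h x
  refine ⟨N, N.ι, ?_, inferInstance, ?_⟩
  · rw [Sieve.overEquiv_iff]
    exact hN
  · rwa [Scheme.Opens.range_ι]

theorem constPreToLCE_W (X : Scheme.{u}) (A : Type (u + 1)) [AddCommGroup A] :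
    (JE X).W (constPreToLCE X A) := by
  rw [GrothendieckTopology.W_iff_isLocallyBijective]
  constructor
  · constructor
    intro U a b h
    apply mem_JE_of_zariski
    intro x
    have hab : a = b := DFunLike.congr_fun (F := LocallyConstant U.unop.left A) h x
    subst hab
    exact ⟨⊤, trivial, rfl⟩
  · constructor
    intro U g
    apply mem_JE_of_zariski
    intro x
    let g' : LocallyConstant U.left A := g
    let N : U.left.Opens := ⟨g' ⁻¹' {g' x}, g'.isLocallyConstant {g' x}⟩
    refine ⟨N, rfl, ?_⟩
    refine ⟨(g' x : A), ?_⟩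
    apply LocallyConstant.ext
    intro y
    exact y.2.symm

/-- The canonical map from the constant sheaf to the sheaf of locally constant functions. -/
def constToLCE (X : Scheme.{u}) (A : Type (u + 1)) [AddCommGroup A] :
    (constantSheaf (JE X) AddCommGrpCat.{u + 1}).obj (AddCommGrpCat.of A) ⟶ LCE X A :=
  ((sheafificationAdjunction (JE X) AddCommGrpCat.{u + 1}).homEquiv
    ((Functor.const (Over X)ᵒᵖ).obj (AddCommGrpCat.of A)) (LCE X A)).symm (constPreToLCE X A)

theorem toSheafify_constToLCE (X : Scheme.{u}) (A : Type (u + 1)) [AddCommGroup A] :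
    toSheafify (JE X) ((Functor.const (Over X)ᵒᵖ).obj (AddCommGrpCat.of A)) ≫
      (constToLCE X A).hom = constPreToLCE X A := by
  have := ((sheafificationAdjunction (JE X) AddCommGrpCat.{u + 1}).homEquiv
    ((Functor.const (Over X)ᵒᵖ).obj (AddCommGrpCat.of A)) (LCE X A)).apply_symm_apply
      (constPreToLCE X A)
  rw [Adjunction.homEquiv_unit] at this
  exact this

instance isIso_constToLCE (X : Scheme.{u}) (A : Type (u + 1)) [AddCommGroup A] :
    IsIso (constToLCE X A) := by
  rw [← GrothendieckTopology.W_sheafToPresheaf_map_iff_isIso]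
  apply MorphismProperty.of_precomp (W' := (JE X).W) (JE X).W
    (toSheafify (JE X) ((Functor.const (Over X)ᵒᵖ).obj (AddCommGrpCat.of A)))
  · exact (JE X).W_toSheafify _
  · have := toSheafify_constToLCE X A
    change (JE X).W (toSheafify (JE X)
      ((Functor.const (Over X)ᵒᵖ).obj (AddCommGrpCat.of A)) ≫ (constToLCE X A).hom)
    rw [this]
    exact constPreToLCE_W X A

/-- The constant sheaf on the big étale site is the sheaf of locally constant functions. -/
def constIsoLCE (X : Scheme.{u}) (A : Type (u + 1)) [AddCommGroup A] :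
    (constantSheaf (JE X) AddCommGrpCat.{u + 1}).obj (AddCommGrpCat.of A) ≅ LCE X A :=
  asIso (constToLCE X A)

/-- `a⁻¹` of the constant sheaf is the sheaf of locally constant functions (big étale site). -/
def aPullEConst (X : Scheme.{u}) (A : Type (u + 1)) [AddCommGroup A] :
    (aPullE X).obj ((constantSheaf X.smallEtaleTopology AddCommGrpCat.{u + 1}).obj (AddCommGrpCat.of A)) ≅
      LCE X A :=
  K343.Basic.constIso Scheme.etaleTopology X (AddCommGrpCat.of A) ≪≫ constIsoLCE X A

/-- For a good topology `K` the presheaf underlying `a⁻¹ A_X` is the presheaf of locally constant functions. -/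
def constBigIso (K : GrothendieckTopology Scheme.{u}) [Good K] (X : Scheme.{u}) [ContK K X]
    (A : Type (u + 1)) [AddCommGroup A] :
    ((aPullK K X).obj ((constantSheaf X.smallEtaleTopology AddCommGrpCat.{u + 1}).obj
      (AddCommGrpCat.of A))).obj ≅ LCov X A :=
  (sheafToPresheaf _ _).mapIso ((aPullIso K X).app _) ≪≫ (sheafToPresheaf _ _).mapIso (aPullEConst X A)

section Homology

variable {C D : Type*} [Category C] [Abelian C] [HasInjectiveResolutions C] [Category D] [Abelian D]

/-- `H⁰(F(I)) = F(G)` for a left exact functor `F`. -/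
def homologyZeroIso (F : C ⥤ D) [F.Additive] [PreservesFiniteLimits F] {G : C} (I : InjectiveResolution G) :
    ((F.mapHomologicalComplex (ComplexShape.up ℤ)).obj I.cochainComplex).homology 0 ≅ F.obj G :=
  (Groth.Agent.Cohder.RDInt.isoH₀ F I 0 0 rfl).symm ≪≫ F.rightDerivedZeroIsoSelf.app G

end Homology

attribute [local instance] isGrothendieckAbelian_AbK

/-- `H⁰` of the presheaf complex underlying an injective resolution of `a⁻¹ A_X` on the big site. -/
def homologyZeroLC (K : GrothendieckTopology Scheme.{u}) [Good K] (X : Scheme.{u}) [ContK K X]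
    (A : Type (u + 1)) [AddCommGroup A]
    (I : InjectiveResolution ((aPullK K X).obj ((constantSheaf X.smallEtaleTopology AddCommGrpCat.{u + 1}).obj
      (AddCommGrpCat.of A)))) :
    (((sheafToPresheaf (K.over X) AddCommGrpCat.{u + 1}).mapHomologicalComplex (ComplexShape.up ℤ)).obj
      I.cochainComplex).homology 0 ≅ LCov X A :=
  homologyZeroIso (sheafToPresheaf (K.over X) AddCommGrpCat.{u + 1}) I ≪≫ constBigIso K X A

end Groth.Agent.EtDual.K143.PV
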