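import Groth.Agent.EtDual.K143.ProdRing
import Groth.Agent.Flat2E.AIC7
import Groth.Agent.Etbase.ExactSections
import Groth.Agent.Etrest.Decomp
import Groth.Agent.EtpbcA.EqLocus

/-!
# Vanishing of étale cohomology when every étale covering is refined by a clopen partition

* `H_subsingleton_of_partition` : general criterion;
* `H_subsingleton_of_exch_aic` : `H^q(Spec R, F) = 0`, `q ≥ 1`, all abelian étale sheaves `F`, for an
  absolutely integrally closed exchange ring `R`.
-/

set_option autoImplicit false

universe u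

open CategoryTheory CategoryTheory.Limits AlgebraicGeometry Opposite
open Groth.Agent.Flat2E.AIC1 Groth.Agent.EtpbcA.EqLocus

namespace Groth.Agent.EtDual.K143.PV

/-- The morphism to the final object of the small étale site. -/
noncomputable def toTop {X : Scheme.{u}} (Z : X.Etale) : Z ⟶ EtCoh.top X :=
  homMk Z.hom (Category.comp_id _)

theorem eq_toTop {X : Scheme.{u}} {Z : X.Etale} (f : Z ⟶ EtCoh.top X) : f = toTop Z :=
  (Groth.Agent.Etbase.ExactSections.topIsTerminal X).hom_ext _ _

/-- If every covering sieve of the final object contains a partition into open subschemes, sections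
over `X` lift along epimorphisms of abelian sheaves. -/
theorem surj_of_partition (X : Scheme.{u})
    (h : ∀ S ∈ X.smallEtaleTopology (EtCoh.top X), ∃ (ι : Type u) (Z : ι → X.Etale),
      (∀ i, Mono (Z i).hom) ∧ (∀ i j, i ≠ j → Disjoint (Set.range (Z i).hom) (Set.range (Z j).hom)) ∧
      (∀ x : X, ∃ i, x ∈ Set.range (Z i).hom) ∧ ∀ i, S (toTop (Z i)))
    (F G : EtCoh.Ab X) (f : F ⟶ G) (hf : Epi f) :
    Function.Surjective (f.hom.app (op (EtCoh.top X))) := by
  intro s
  rw [← Sheaf.isLocallySurjective_iff_epi'] at hf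
  have hS := Presheaf.imageSieve_mem X.smallEtaleTopology f.hom s
  obtain ⟨ι, Z, hmono, hdisj, hcov, hZ⟩ := h _ hS
  choose t ht using hZ
  obtain ⟨y, hy⟩ := Groth.Agent.Etrest.Decomp.exists_glue F Z (fun i => toTop (Z i))
    (by
      rw [Set.eq_univ_iff_forall]
      intro x
      obtain ⟨i, hi⟩ := hcov x
      exact Set.mem_iUnion.2 ⟨i, hi⟩) t
    (by
      intro i j V a b e
      by_cases hij : i = j
      · subst hij
        have : a = b := by
          apply hom_ext
          have := hmono i
          rw [← cancel_mono (Z i).hom]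
          have h1 := congrArg (fun m => m.left) e
          exact h1
        rw [this]
      · have : IsEmpty V.left := by
          constructor
          intro v
          have h1 : (a ≫ toTop (Z i)).left v = (b ≫ toTop (Z j)).left v := by rw [e]
          exact Set.disjoint_left.1 (hdisj i j hij) ⟨a.left v, rfl⟩ ⟨b.left v, h1.symm⟩
        exact Groth.Agent.Etrest.Decomp.sect_eq_of_isEmpty F V _ _)
  refine ⟨y, ?_⟩
  refine Groth.Agent.Etrest.Supp.eq_of_locally_eq G (EtCoh.top X) _ _ (fun x => ?_)
  obtain ⟨i, v, hv⟩ := hcov x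
  refine ⟨Z i, toTop (Z i), v, hv, ?_⟩
  have h1 := ht i
  rw [← hy i] at h1
  refine Eq.trans ?_ h1
  exact (ConcreteCategory.congr_hom (f.hom.naturality (toTop (Z i)).op) y).symm

theorem H_subsingleton_of_partition (X : Scheme.{u})
    (h : ∀ S ∈ X.smallEtaleTopology (EtCoh.top X), ∃ (ι : Type u) (Z : ι → X.Etale),
      (∀ i, Mono (Z i).hom) ∧ (∀ i j, i ≠ j → Disjoint (Set.range (Z i).hom) (Set.range (Z j).hom)) ∧
      (∀ x : X, ∃ i, x ∈ Set.range (Z i).hom) ∧ ∀ i, S (toTop (Z i)))
    (F : EtCoh.Ab X) (q : ℕ) (hq : 1 ≤ q) : Subsingleton (EtCoh.H X F q) :=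
  Groth.Agent.Etbase.ExactSections.H_subsingleton_of_surj X (fun F G f hf => surj_of_partition X h F G f hf) F q hq

section Affine

variable {X : Scheme.{u}} {R : Type u} [CommRing R] (e : X ≅ Spec (CommRingCat.of R))

/-- The open subscheme `D(c)` of `X ≅ Spec R`, as an object of the small étale site. -/
noncomputable def Zc (c : R) : X.Etale :=
  Scheme.Etale.mk (Spec.map (CommRingCat.ofHom (algebraMap R (Localization.Away c))) ≫ e.inv)

theorem Zc_hom (c : R) :
    (Zc e c).hom = Spec.map (CommRingCat.ofHom (algebraMap R (Localization.Away c))) ≫ e.inv := rfl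

theorem mono_Zc (c : R) : Mono (Zc e c).hom := by
  have h1 : IsOpenImmersion (Spec.map (CommRingCat.ofHom (algebraMap R (Localization.Away c)))) :=
    IsOpenImmersion.of_isLocalization c
  have h2 : IsOpenImmersion (Spec.map (CommRingCat.ofHom (algebraMap R (Localization.Away c))) ≫ e.inv) :=
    inferInstance
  rw [Zc_hom]
  exact @IsOpenImmersion.mono _ _ _ h2

theorem range_away (c : R) :
    Set.range (Spec.map (CommRingCat.ofHom (algebraMap R (Localization.Away c)))) =
      {q : Spec (CommRingCat.of R) | c ∉ q.asIdeal} :=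
  PrimeSpectrum.localization_away_comap_range _ c

theorem mem_range_Zc (c : R) (x : X) : x ∈ Set.range (Zc e c).hom ↔ c ∉ (e.hom x).asIdeal := by
  have h1 := range_away c
  rw [Zc_hom]
  constructor
  · rintro ⟨y, hy⟩
    have hy' : e.inv (Spec.map (CommRingCat.ofHom (algebraMap R (Localization.Away c))) y) = x := hy
    have h3 : e.hom x = Spec.map (CommRingCat.ofHom (algebraMap R (Localization.Away c))) y := by
      rw [← hy', ← Scheme.Hom.comp_apply, e.inv_hom_id]
      rfl
    have : e.hom x ∈ {q : Spec (CommRingCat.of R) | c ∉ q.asIdeal} := by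
      rw [← h1, h3]; exact ⟨y, rfl⟩
    exact this
  · intro hx
    have h2 : e.hom x ∈ {q : Spec (CommRingCat.of R) | c ∉ q.asIdeal} := hx
    rw [← h1] at h2
    obtain ⟨y, hy⟩ := h2
    refine ⟨y, ?_⟩
    change e.inv (Spec.map (CommRingCat.ofHom (algebraMap R (Localization.Away c))) y) = x
    rw [hy, ← Scheme.Hom.comp_apply, e.hom_inv_id]
    rfl

/-- `D(d) ⟶ D(c)` when `c ∣ d`. -/
theorem exists_Zc_hom (c d : R) (h : c ∣ d) : Nonempty (Zc e d ⟶ Zc e c) := by
  have hu : IsUnit (algebraMap R (Localization.Away d) c) :=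
    isUnit_of_dvd_unit (map_dvd _ h) (IsLocalization.Away.algebraMap_isUnit d)
  let φ : Localization.Away c →+* Localization.Away d := IsLocalization.Away.lift c hu
  have hφ : φ.comp (algebraMap R (Localization.Away c)) = algebraMap R (Localization.Away d) :=
    IsLocalization.Away.lift_comp c hu
  refine ⟨homMk (Spec.map (CommRingCat.ofHom φ)) ?_⟩
  change Spec.map (CommRingCat.ofHom φ) ≫ Spec.map (CommRingCat.ofHom (algebraMap R (Localization.Away c))) ≫ e.inv =
    Spec.map (CommRingCat.ofHom (algebraMap R (Localization.Away d))) ≫ e.inv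
  rw [← Category.assoc, ← Spec.map_comp, ← CommRingCat.ofHom_comp, hφ]

theorem exists_point (hA : IsAIC R) (S : Sieve (EtCoh.top X))
    (hS : S ∈ X.smallEtaleTopology (EtCoh.top X)) (x : X) :
    ∃ c : R, c ∉ (e.hom x).asIdeal ∧ S (toTop (Zc e c)) := by
  have eX : X.smallEtaleTopology = (X.smallPretopology (P := EtCoh.etaleMP) (Q := EtCoh.etaleMP)).toGrothendieck :=
    Scheme.smallGrothendieckTopology_eq_toGrothendieck_smallPretopology X le_rfl
  rw [eX] at hS
  replace hS := (Scheme.mem_toGrothendieck_smallPretopology _ S).1 hS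
  obtain ⟨V, g, v, hg, -, hv⟩ := hS x
  have hVh : V.hom v = x := by
    have h1 : g.left ≫ (EtCoh.top X).hom = V.hom := hom_w g
    rw [← h1, Scheme.Hom.comp_apply, hv]
    rfl
  have : Etale V.hom := V.prop
  have hq : e.hom x ∈ Set.range (V.hom ≫ e.hom) := ⟨v, by rw [Scheme.Hom.comp_apply, hVh]⟩
  obtain ⟨c, σ, hc, hσ⟩ := Groth.Agent.Flat2E.AIC7.exists_section_of_etale hA (e.hom x) (V.hom ≫ e.hom) hq
  refine ⟨c, hc, ?_⟩
  let k : Zc e c ⟶ V := homMk σ (by
    rw [Zc_hom, ← hσ]
    simp only [Category.assoc, Iso.hom_inv_id, Category.comp_id]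
    rfl)
  have := S.downward_closed hg k
  rwa [eq_toTop (k ≫ g)] at this

include e in
/-- Over an absolutely integrally closed exchange ring every étale covering is refined by a
partition into principal open subsets. -/
theorem exists_partition (hE : Exch R) (hA : IsAIC R) (S : Sieve (EtCoh.top X))
    (hS : S ∈ X.smallEtaleTopology (EtCoh.top X)) : ∃ (ι : Type u) (Z : ι → X.Etale),
      (∀ i, Mono (Z i).hom) ∧ (∀ i j, i ≠ j → Disjoint (Set.range (Z i).hom) (Set.range (Z j).hom)) ∧
      (∀ x : X, ∃ i, x ∈ Set.range (Z i).hom) ∧ ∀ i, S (toTop (Z i)) := by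
  classical
  choose c hc hcS using exists_point e hA S hS
  have htop : Ideal.span (Set.range c) = ⊤ := by
    by_contra hne
    obtain ⟨m, hm, hle⟩ := Ideal.exists_le_maximal _ hne
    have hp : m.IsPrime := hm.isPrime
    let x : X := e.inv ⟨m, hp⟩
    have hx : e.hom x = ⟨m, hp⟩ := by
      change e.hom (e.inv _) = _
      rw [← Scheme.Hom.comp_apply, e.inv_hom_id]
      rfl
    apply hc x
    rw [hx]
    exact hle (Ideal.subset_span ⟨x, rfl⟩)
  have h1 : (1 : R) ∈ Ideal.span (Set.range c) := by rw [htop]; trivial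
  obtain ⟨b, hb⟩ := (Finsupp.mem_ideal_span_range_iff_exists_finsupp).1 h1
  obtain ⟨f, hff, hfo, hfd, hf0, hfs⟩ := hE.exists_orth_aux c b b.support 1 (one_mul 1)
    (by rw [← hb]; rfl)
  refine ⟨X, fun i => Zc e (f i), ?_, ?_, ?_, ?_⟩
  · intro i
    exact mono_Zc e (f i)
  · intro i j hij
    rw [Set.disjoint_left]
    intro x hi hj
    rw [mem_range_Zc] at hi hj
    have : f i * f j ∈ (e.hom x).asIdeal := by rw [hfo i j hij]; exact Ideal.zero_mem _
    rcases (e.hom x).isPrime.mem_or_mem this with h | h
    · exact hi h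
    · exact hj h
  · intro x
    by_contra hne
    push Not at hne
    have : (1 : R) ∈ (e.hom x).asIdeal := by
      rw [← hfs]
      refine Ideal.sum_mem _ fun i _ => ?_
      by_contra hi
      exact hne i ((mem_range_Zc e (f i) x).2 hi)
    exact (e.hom x).isPrime.ne_top ((Ideal.eq_top_iff_one _).2 this)
  · intro i
    have hdvd : c i ∣ f i := by
      by_cases hi : i ∈ b.support
      · exact hfd i hi
      · rw [hf0 i hi]; exact dvd_zero _
    obtain ⟨k⟩ := exists_Zc_hom e (c i) (f i) hdvd
    have := S.downward_closed (hcS i) k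
    rwa [eq_toTop (k ≫ toTop (Zc e (c i)))] at this

include e in
/-- Étale cohomology of (a scheme isomorphic to) the spectrum of an absolutely integrally closed
exchange ring vanishes in positive degrees, for all abelian sheaves. -/
theorem H_subsingleton_of_exch_aic (hE : Exch R) (hA : IsAIC R) (F : EtCoh.Ab X) (q : ℕ) (hq : 1 ≤ q) :
    Subsingleton (EtCoh.H X F q) :=
  H_subsingleton_of_partition X (fun S hS => exists_partition e hE hA S hS) F q hq

end Affine

end Groth.Agent.EtDual.K143.PV
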