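import Groth.Agent.Flat2H.KoszulBasic
import Mathlib.CategoryTheory.Abelian.FunctorCategory
import Mathlib.Algebra.Category.Grp.Abelian
import Mathlib.Algebra.Homology.ShortComplex.Ab
import Mathlib.CategoryTheory.Limits.Preserves.FunctorCategory
import Mathlib.CategoryTheory.Limits.FunctorCategory.EpiMono

/-!
# Cohomology of `cone(φ)[-1]` for complexes of presheaves

* `isZero_homology_fib` : `H^i(cone(φ)[-1])(T) = 0` if `H^(i-1)(φ)(T)` is epi and `H^i(φ)(T)` is mono;
* `fibKer` : `H^0(cone(φ)[-1]) = ker H^0(φ)` if `H^(-1)` of the target vanishes;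
* `exists_fibMap` : maps `H^0(cone(φ₂)[-1]) → H^0(cone(φ₁)[-1])` from maps `H^0(K₂) → H^0(K₁)`.
-/

set_option autoImplicit false

universe w v u

open CategoryTheory Category Limits CochainComplex Opposite Groth.Agent.Flat2H.KoszulBasic

namespace Groth.Agent.EtDual.K143.PV

section General

variable {C : Type u} [Category.{v} C] [Abelian C]

/-- `cone(φ)[-1]`. -/
noncomputable abbrev fib {K L : CochainComplex C ℤ} (φ : K ⟶ L) : CochainComplex C ℤ :=
  (mappingCone φ)⟦(-1 : ℤ)⟧

/-- `H^i(cone(φ)[-1]) = H^(i-1)(cone φ)`. -/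
noncomputable def fibHomologyIso {K L : CochainComplex C ℤ} (φ : K ⟶ L) (i j : ℤ) (h : j + 1 = i) :
    (fib φ).homology i ≅ (mappingCone φ).homology j :=
  (CochainComplex.ShiftSequence.shiftIso C (-1) i j (by lia)).app (mappingCone φ)

/-- `H^i(cone(φ)[-1]) → H^i(K)`. -/
noncomputable def fibι {K L : CochainComplex C ℤ} (φ : K ⟶ L) (i : ℤ) : (fib φ).homology i ⟶ K.homology i :=
  (fibHomologyIso φ i (i - 1) (by lia)).hom ≫ coneδ φ (i - 1) i (by lia)

theorem fibι_comp {K L : CochainComplex C ℤ} (φ : K ⟶ L) (i : ℤ) :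
    fibι φ i ≫ HomologicalComplex.homologyMap φ i = 0 := by
  rw [fibι, assoc, cone_w₁, comp_zero]

theorem fibι_exact {K L : CochainComplex C ℤ} (φ : K ⟶ L) (i : ℤ) :
    (ShortComplex.mk _ _ (fibι_comp φ i)).Exact := by
  refine (ShortComplex.exact_iff_of_iso ?_).2 (cone_exact₁ φ (i - 1) i (by lia))
  exact ShortComplex.isoMk (fibHomologyIso φ i (i - 1) (by lia)) (Iso.refl _) (Iso.refl _)
    (by simp [fibι]) (by simp)

theorem isZero_homology_fib' {K L : CochainComplex C ℤ} (φ : K ⟶ L) (i j : ℤ) (h : j + 1 = i)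
    (h1 : Epi (HomologicalComplex.homologyMap φ j)) (h2 : Mono (HomologicalComplex.homologyMap φ i)) :
    IsZero ((fib φ).homology i) := by
  have e1 : HomologicalComplex.homologyMap (mappingCone.inr φ) j = 0 := by
    rw [← cancel_epi (HomologicalComplex.homologyMap φ j), cone_w₂, comp_zero]
  have e2 : coneδ φ j i h = 0 := by
    rw [← cancel_mono (HomologicalComplex.homologyMap φ i), cone_w₁, zero_comp]
  exact ((cone_exact₃ φ j i h).isZero_of_both_zeros e1 e2).of_iso (fibHomologyIso φ i j h)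

theorem mono_fibι {K L : CochainComplex C ℤ} (φ : K ⟶ L) (i j : ℤ) (h : j + 1 = i)
    (h1 : Epi (HomologicalComplex.homologyMap φ j)) : Mono (fibι φ i) := by
  obtain rfl : j = i - 1 := by lia
  have e1 : HomologicalComplex.homologyMap (mappingCone.inr φ) (i - 1) = 0 := by
    rw [← cancel_epi (HomologicalComplex.homologyMap φ (i - 1)), cone_w₂, comp_zero]
  have e2 : Mono (coneδ φ (i - 1) i (by lia)) := (cone_exact₃ φ (i - 1) i (by lia)).mono_g e1
  rw [fibι]
  infer_instance

end General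

section Presheaf

variable {C : Type u} [Category.{v} C] {K L : CochainComplex (Cᵒᵖ ⥤ AddCommGrpCat.{w}) ℤ} (φ : K ⟶ L)

theorem isZero_homology_fib (T : C) (i j : ℤ) (h : j + 1 = i)
    (h1 : Function.Surjective ((HomologicalComplex.homologyMap φ j).app (op T)))
    (h2 : Function.Injective ((HomologicalComplex.homologyMap φ i).app (op T))) :
    IsZero (((fib φ).homology i).obj (op T)) := by
  have h3 := (cone_exact₃ φ j i h).map ((evaluation Cᵒᵖ AddCommGrpCat.{w}).obj (op T))
  have e1 : (HomologicalComplex.homologyMap (mappingCone.inr φ) j).app (op T) = 0 := by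
    have : Epi ((HomologicalComplex.homologyMap φ j).app (op T)) := (AddCommGrpCat.epi_iff_surjective _).2 h1
    rw [← cancel_epi ((HomologicalComplex.homologyMap φ j).app (op T)), comp_zero]
    have := congrArg (fun t => t.app (op T)) (cone_w₂ φ j)
    exact this
  have e2 : (coneδ φ j i h).app (op T) = 0 := by
    have : Mono ((HomologicalComplex.homologyMap φ i).app (op T)) := (AddCommGrpCat.mono_iff_injective _).2 h2
    rw [← cancel_mono ((HomologicalComplex.homologyMap φ i).app (op T)), zero_comp]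
    have := congrArg (fun t => t.app (op T)) (cone_w₁ φ j i h)
    exact this
  exact (h3.isZero_of_both_zeros e1 e2).of_iso ((fibHomologyIso φ i j h).app (op T))

/-- Elements of `H^i(cone(φ)[-1])(T)`: the kernel of `H^i(φ)(T)`. -/
theorem fibι_range (T : C) (i : ℤ) (x : (K.homology i).obj (op T)) :
    (HomologicalComplex.homologyMap φ i).app (op T) x = 0 ↔ ∃ y, (fibι φ i).app (op T) y = x := by
  have h3 := (fibι_exact φ i).map ((evaluation Cᵒᵖ AddCommGrpCat.{w}).obj (op T))
  rw [ShortComplex.ab_exact_iff] at h3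
  constructor
  · exact h3 x
  · rintro ⟨y, rfl⟩
    exact congrArg (fun t => (t.app (op T)).hom y) (fibι_comp φ i)

theorem fibι_injective (T : C) (i j : ℤ) (h : j + 1 = i) (h1 : Function.Surjective
    ((HomologicalComplex.homologyMap φ j).app (op T))) : Function.Injective ((fibι φ i).app (op T)) := by
  obtain rfl : j = i - 1 := by lia
  have h3 := (cone_exact₃ φ (i - 1) i (by lia)).map ((evaluation Cᵒᵖ AddCommGrpCat.{w}).obj (op T))
  have e1 : (HomologicalComplex.homologyMap (mappingCone.inr φ) (i - 1)).app (op T) = 0 := by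
    have : Epi ((HomologicalComplex.homologyMap φ (i - 1)).app (op T)) := (AddCommGrpCat.epi_iff_surjective _).2 h1
    rw [← cancel_epi ((HomologicalComplex.homologyMap φ (i - 1)).app (op T)), comp_zero]
    have := congrArg (fun t => t.app (op T)) (cone_w₂ φ (i - 1))
    exact this
  have e2 : Mono ((coneδ φ (i - 1) i (by lia)).app (op T)) := h3.mono_g e1
  have e3 : Mono ((fibι φ i).app (op T)) := by
    rw [fibι, NatTrans.comp_app]
    infer_instance
  exact (AddCommGrpCat.mono_iff_injective _).1 e3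

end Presheaf

section Map

variable {C : Type u} [Category.{v} C] {K₁ L₁ K₂ L₂ : CochainComplex (Cᵒᵖ ⥤ AddCommGrpCat.{w}) ℤ}
  (φ₁ : K₁ ⟶ L₁) (φ₂ : K₂ ⟶ L₂)

/-- A map on `H^0` of the sources preserving the kernels induces a map `H^0(cone(φ₂)[-1]) → H^0(cone(φ₁)[-1])`,
which is an isomorphism at `T` as soon as the map on the kernels is bijective at `T`. -/
theorem exists_fibMap (h1 : IsZero (L₁.homology (-1))) (h2 : IsZero (L₂.homology (-1)))
    (a : K₂.homology 0 ⟶ K₁.homology 0)
    (ha : ∀ (T : C) (x : (K₂.homology 0).obj (op T)),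
      (HomologicalComplex.homologyMap φ₂ 0).app (op T) x = 0 →
      (HomologicalComplex.homologyMap φ₁ 0).app (op T) (a.app (op T) x) = 0) :
    ∃ α : (fib φ₂).homology 0 ⟶ (fib φ₁).homology 0, α ≫ fibι φ₁ 0 = fibι φ₂ 0 ≫ a ∧
      ∀ T : C, Function.Injective (a.app (op T)) →
        (∀ y : (K₁.homology 0).obj (op T), (HomologicalComplex.homologyMap φ₁ 0).app (op T) y = 0 →
          ∃ x : (K₂.homology 0).obj (op T), (HomologicalComplex.homologyMap φ₂ 0).app (op T) x = 0 ∧
            a.app (op T) x = y) → IsIso (α.app (op T)) := by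
  have hm1 : Mono (fibι φ₁ 0) := mono_fibι φ₁ 0 (-1) (by lia) (h1.epi _)
  have hm2 : Mono (fibι φ₂ 0) := mono_fibι φ₂ 0 (-1) (by lia) (h2.epi _)
  have hw : (fibι φ₂ 0 ≫ a) ≫ HomologicalComplex.homologyMap φ₁ 0 = 0 := by
    ext T x
    exact ha T.unop _ ((fibι_range φ₂ T.unop 0 _).2 ⟨x, rfl⟩)
  refine ⟨(fibι_exact φ₁ 0).lift (fibι φ₂ 0 ≫ a) hw, (fibι_exact φ₁ 0).lift_f _ hw, fun T hinj hsurj => ?_⟩
  set α := (fibι_exact φ₁ 0).lift (fibι φ₂ 0 ≫ a) hw with hα
  have hαw : α ≫ fibι φ₁ 0 = fibι φ₂ 0 ≫ a := (fibι_exact φ₁ 0).lift_f _ hw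
  have i1 : Function.Injective ((fibι φ₁ 0).app (op T)) :=
    (AddCommGrpCat.mono_iff_injective _).1 ((NatTrans.mono_iff_mono_app _).1 hm1 (op T))
  have i2 : Function.Injective ((fibι φ₂ 0).app (op T)) :=
    (AddCommGrpCat.mono_iff_injective _).1 ((NatTrans.mono_iff_mono_app _).1 hm2 (op T))
  have hαa : ∀ x, (fibι φ₁ 0).app (op T) (α.app (op T) x) = a.app (op T) ((fibι φ₂ 0).app (op T) x) :=
    fun x => congrArg (fun t => (t.app (op T)).hom x) hαw
  have hbij : Function.Bijective (α.app (op T)) := by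
    constructor
    · intro x y hxy
      apply i2
      apply hinj
      rw [← hαa, ← hαa, hxy]
    · intro y
      obtain ⟨x, hx, hxy⟩ := hsurj ((fibι φ₁ 0).app (op T) y) ((fibι_range φ₁ T 0 _).2 ⟨y, rfl⟩)
      obtain ⟨z, rfl⟩ := (fibι_range φ₂ T 0 _).1 hx
      refine ⟨z, i1 ?_⟩
      rw [hαa, hxy]
  exact (ConcreteCategory.isIso_iff_bijective _).2 hbij

end Map

end Groth.Agent.EtDual.K143.PV
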