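import Mathlib.RingTheory.Spectrum.Prime.Topology
import Mathlib.RingTheory.Idempotents
import Mathlib.Topology.LocallyConstant.Algebra

/-!
# Locally constant functions on spectra and idempotents

* `IdemBij f` : the ring homomorphism `f : R →+* S` is bijective on idempotents;
* `comap_bijective` : then `LC(Spec R, M) → LC(Spec S, M)` is bijective (`M` finite);
* `vanish_lift`.
-/

set_option autoImplicit false

universe u v w

open TopologicalSpace

namespace Groth.Agent.EtDual.K143.PV

section Basic

variable {R : Type u} [CommRing R] {M : Type w}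

theorem exists_idem_of_isClopen {s : Set (PrimeSpectrum R)} (hs : IsClopen s) :
    ∃ e : R, e * e = e ∧ ∀ q : PrimeSpectrum R, q ∈ s ↔ e ∉ q.asIdeal := by
  obtain ⟨e, he, h⟩ := PrimeSpectrum.exists_idempotent_basicOpen_eq_of_isClopen hs
  refine ⟨e, he, fun q => ?_⟩
  rw [h]
  rfl

/-- An idempotent contained in all prime ideals is zero. -/
theorem idem_eq_zero {e : R} (he : e * e = e) (h : ∀ q : PrimeSpectrum R, e ∈ q.asIdeal) : e = 0 := by
  have h1 : e ∈ nilradical R := by
    rw [nilradical_eq_sInf, Ideal.mem_sInf]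
    exact fun {I} hI => h ⟨I, hI⟩
  obtain ⟨n, hn⟩ := h1
  rcases Nat.eq_zero_or_pos n with rfl | hpos
  · rw [pow_zero] at hn
    rw [← mul_one e, hn, mul_zero]
  · rwa [IsIdempotentElem.pow_eq (show IsIdempotentElem e from he) hpos.ne'] at hn

theorem idem_eq_of_forall {e e' : R} (he : e * e = e) (he' : e' * e' = e')
    (h : ∀ q : PrimeSpectrum R, e ∉ q.asIdeal ↔ e' ∉ q.asIdeal) : e = e' := by
  have key : ∀ a b : R, a * a = a → b * b = b → (∀ q : PrimeSpectrum R, a ∉ q.asIdeal → b ∉ q.asIdeal) →
      a * (1 - b) = 0 := by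
    intro a b ha hb hab
    refine idem_eq_zero (by linear_combination (1 - b) ^ 2 * ha + a * hb) fun q => ?_
    by_cases h1 : a ∈ q.asIdeal
    · exact Ideal.mul_mem_right _ _ h1
    · refine Ideal.mul_mem_left _ _ ?_
      refine (q.isPrime.mem_or_mem (x := b) (y := 1 - b) ?_).resolve_left (hab q h1)
      have : b * (1 - b) = 0 := by linear_combination -hb
      rw [this]
      exact Ideal.zero_mem _
  have h1 := key e e' he he' fun q => (h q).1
  have h2 := key e' e he' he fun q => (h q).2
  linear_combination h1 - h2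

/-- The idempotent cutting out `{φ = m}`. -/
noncomputable def idem (φ : LocallyConstant (PrimeSpectrum R) M) (m : M) : R :=
  (exists_idem_of_isClopen (φ.isLocallyConstant.isClopen_fiber m)).choose

theorem idem_mul_self (φ : LocallyConstant (PrimeSpectrum R) M) (m : M) : idem φ m * idem φ m = idem φ m :=
  (exists_idem_of_isClopen (φ.isLocallyConstant.isClopen_fiber m)).choose_spec.1

theorem eq_iff_idem (φ : LocallyConstant (PrimeSpectrum R) M) (m : M) (q : PrimeSpectrum R) :
    φ q = m ↔ idem φ m ∉ q.asIdeal :=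
  (exists_idem_of_isClopen (φ.isLocallyConstant.isClopen_fiber m)).choose_spec.2 q

theorem idem_mul_of_ne (φ : LocallyConstant (PrimeSpectrum R) M) {m m' : M} (h : m ≠ m') :
    idem φ m * idem φ m' = 0 := by
  refine idem_eq_zero ?_ fun q => ?_
  · linear_combination (idem φ m') ^ 2 * idem_mul_self φ m + idem φ m * idem_mul_self φ m'
  · by_cases h1 : φ q = m
    · refine Ideal.mul_mem_left _ _ ?_
      by_contra h2
      exact h (h1.symm.trans ((eq_iff_idem φ m' q).2 h2))
    · refine Ideal.mul_mem_right _ _ ?_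
      by_contra h2
      exact h1 ((eq_iff_idem φ m q).2 h2)

/-- The locally constant function of a complete system of orthogonal idempotents. -/
theorem exists_of_idem [Fintype M] (e : M → R) (he : ∀ m m', m ≠ m' → e m * e m' = 0)
    (hs : ∑ m, e m = 1) : ∃ φ : LocallyConstant (PrimeSpectrum R) M, ∀ m q, φ q = m ↔ e m ∉ q.asIdeal := by
  have h1 : ∀ q : PrimeSpectrum R, ∃ m, e m ∉ q.asIdeal := by
    intro q
    by_contra h
    push Not at h
    apply q.isPrime.ne_top
    rw [Ideal.eq_top_iff_one, ← hs]
    exact sum_mem fun m _ => h m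
  have h2 : ∀ (q : PrimeSpectrum R) m m', e m ∉ q.asIdeal → e m' ∉ q.asIdeal → m = m' := by
    intro q m m' hm hm'
    by_contra hne
    rcases q.isPrime.mem_or_mem (x := e m) (y := e m') (by rw [he m m' hne]; exact Ideal.zero_mem _) with h | h
    · exact hm h
    · exact hm' h
  choose f hf using h1
  refine ⟨⟨f, ?_⟩, fun m q => ⟨?_, fun h => h2 q _ _ (hf q) h⟩⟩
  · rw [IsLocallyConstant.iff_exists_open]
    intro q
    exact ⟨{r | e (f q) ∉ r.asIdeal}, (PrimeSpectrum.basicOpen _).isOpen, hf q, fun r hr => h2 r _ _ (hf r) hr⟩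
  · rintro rfl
    exact hf q

end Basic

section Map

variable {R : Type u} {S : Type v} [CommRing R] [CommRing S] (f : R →+* S)

/-- Bijective on idempotents. -/
def IdemBij : Prop := (∀ e : S, e * e = e → ∃ r : R, r * r = r ∧ f r = e) ∧
  ∀ r r' : R, r * r = r → r' * r' = r' → f r = f r' → r = r'

variable {f} {M : Type w}

theorem comap_idem (φ : LocallyConstant (PrimeSpectrum R) M) (m : M) :
    f (idem φ m) = idem (LocallyConstant.comap ⟨PrimeSpectrum.comap f, (PrimeSpectrum.continuous_comap f)⟩ φ) m := by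
  refine idem_eq_of_forall (by rw [← map_mul, idem_mul_self]) (idem_mul_self _ _) fun q => ?_
  rw [← eq_iff_idem]
  exact (eq_iff_idem φ m (PrimeSpectrum.comap f q)).symm

theorem comap_injective_of_idemBij (hf : IdemBij f) :
    Function.Injective (LocallyConstant.comap ⟨PrimeSpectrum.comap f, (PrimeSpectrum.continuous_comap f)⟩ :
      LocallyConstant (PrimeSpectrum R) M → LocallyConstant (PrimeSpectrum S) M) := by
  intro φ φ' h
  ext q
  rw [eq_comm, eq_iff_idem]
  have h1 : idem φ' (φ q) = idem φ (φ q) := by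
    refine hf.2 _ _ (idem_mul_self _ _) (idem_mul_self _ _) ?_
    rw [comap_idem, comap_idem, h]
  rw [h1, ← eq_iff_idem]

theorem comap_surjective_of_idemBij [Finite M] (hf : IdemBij f) :
    Function.Surjective (LocallyConstant.comap ⟨PrimeSpectrum.comap f, (PrimeSpectrum.continuous_comap f)⟩ :
      LocallyConstant (PrimeSpectrum R) M → LocallyConstant (PrimeSpectrum S) M) := by
  classical
  have := Fintype.ofFinite M
  intro ψ
  have h1 := fun m => hf.1 (idem ψ m) (idem_mul_self ψ m)
  choose e he1 he2 using h1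
  have h3 : ∀ m m', m ≠ m' → e m * e m' = 0 := by
    intro m m' hne
    refine hf.2 _ _ ?_ (zero_mul 0) ?_
    · linear_combination (e m') ^ 2 * he1 m + e m * he1 m'
    · rw [map_mul, he2, he2, idem_mul_of_ne ψ hne, map_zero]
  have h4 : ∑ m, e m = 1 := by
    refine hf.2 _ _ ?_ (one_mul 1) ?_
    · rw [Finset.sum_mul]
      refine Finset.sum_congr rfl fun m _ => ?_
      rw [Finset.mul_sum, Finset.sum_eq_single m]
      · exact he1 m
      · intro m' _ hne
        exact h3 m m' hne.symm
      · intro h; exact absurd (Finset.mem_univ m) h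
    · rw [map_sum, map_one]
      simp only [he2]
      have h5 : (1 - ∑ m, idem ψ m) * (1 - ∑ m, idem ψ m) = 1 - ∑ m, idem ψ m := by
        have : (∑ m, idem ψ m) * (∑ m, idem ψ m) = ∑ m, idem ψ m := by
          rw [Finset.sum_mul]
          refine Finset.sum_congr rfl fun m _ => ?_
          rw [Finset.mul_sum, Finset.sum_eq_single m]
          · exact idem_mul_self ψ m
          · intro m' _ hne
            exact idem_mul_of_ne ψ hne.symm
          · intro h; exact absurd (Finset.mem_univ m) h
        linear_combination this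
      have h6 : 1 - ∑ m, idem ψ m = 0 := by
        refine idem_eq_zero h5 fun q => ?_
        have h7 : idem ψ (ψ q) ∉ q.asIdeal := (eq_iff_idem ψ _ q).1 rfl
        refine (q.isPrime.mem_or_mem (x := idem ψ (ψ q)) (y := 1 - ∑ m, idem ψ m) ?_).resolve_left h7
        rw [mul_sub, mul_one, Finset.mul_sum, Finset.sum_eq_single (ψ q), idem_mul_self, sub_self]
        · exact Ideal.zero_mem _
        · intro m' _ hne
          exact idem_mul_of_ne ψ hne.symm
        · intro h; exact absurd (Finset.mem_univ _) h
      linear_combination -h6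
  obtain ⟨φ, hφ⟩ := exists_of_idem e h3 h4
  refine ⟨φ, ?_⟩
  ext q
  change φ (PrimeSpectrum.comap f q) = ψ q
  rw [hφ]
  change f (e (ψ q)) ∉ q.asIdeal
  rw [he2]
  exact (eq_iff_idem ψ _ q).1 rfl

theorem comap_bijective_of_idemBij [Finite M] (hf : IdemBij f) :
    Function.Bijective (LocallyConstant.comap ⟨PrimeSpectrum.comap f, (PrimeSpectrum.continuous_comap f)⟩ :
      LocallyConstant (PrimeSpectrum R) M → LocallyConstant (PrimeSpectrum S) M) :=
  ⟨comap_injective_of_idemBij hf, comap_surjective_of_idemBij hf⟩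

/-- Support of the lift. -/
theorem vanish_lift [Zero M] (x : S) (X : R)
    (h : ∀ r : R, r * r = r → f r * x = 0 → r * X = 0) (hS : IsReduced S) (φ : LocallyConstant (PrimeSpectrum R) M)
    (hφ : ∀ q : PrimeSpectrum S, x ∉ q.asIdeal → φ (PrimeSpectrum.comap f q) = 0)
    (q : PrimeSpectrum R) (hq : X ∉ q.asIdeal) : φ q = 0 := by
  by_contra hne
  have h1 : f (idem φ (φ q)) * x = 0 := by
    have h2 : f (idem φ (φ q)) * x ∈ nilradical S := by
      rw [nilradical_eq_sInf, Ideal.mem_sInf]
      intro J hJ
      have hJ' : J.IsPrime := hJ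
      by_cases hx : x ∈ J
      · exact Ideal.mul_mem_left _ _ hx
      · refine Ideal.mul_mem_right _ _ ?_
        by_contra h3
        have h4 : φ (PrimeSpectrum.comap f ⟨J, hJ'⟩) = φ q := (eq_iff_idem φ _ _).2 h3
        exact hne (h4.symm.trans (hφ ⟨J, hJ'⟩ hx))
    rw [nilradical_eq_zero] at h2
    exact h2
  have h5 := h _ (idem_mul_self φ (φ q)) h1
  have h6 : idem φ (φ q) ∉ q.asIdeal := (eq_iff_idem φ _ q).1 rfl
  rcases q.isPrime.mem_or_mem (x := idem φ (φ q)) (y := X) (by rw [h5]; exact Ideal.zero_mem _) with h | h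
  · exact h6 h
  · exact hq h

end Map

end Groth.Agent.EtDual.K143.PV
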