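import Groth.Agent.EtDual.K143.SecVan
import Groth.Agent.EtDual.K152.Fib

/-!
# `H⁰` and vanishing for the complex with supports `K152.Fib.KF`

* `kfZeroIso` : `H⁰(KF e (PC I)) ≅ LV Y (range e) A`;
* `isZero_KF` : `H^i(KF e (PC I))(V) = 0`, `i > 0`, for `V = Spec ∏ W i`, `W i` a.i.c. valuation domains.
-/

set_option autoImplicit false
set_option backward.isDefEq.respectTransparency false
set_option backward.isDefEq.respectTransparency.types false

universe w v u

open CategoryTheory CategoryTheory.Limits AlgebraicGeometry Opposite HomologicalComplex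
open Groth.Agent.Sga4B.ConstLC Groth.Agent.Etrest.BigEtSite K343.Basic K343.Res K224.Sec
open Groth.Agent.Flat2E.AIC1 K781.Desc K152.Fib

noncomputable section

namespace Groth.Agent.EtDual.K143.PV

section General

variable {C : Type u} [Category.{v} C] [HasPullbacks C] {Y₀ Y : C} (e : Y₀ ⟶ Y)
  (A : CochainComplex ((Over Y)ᵒᵖ ⥤ AddCommGrpCat.{w}) ℤ)

/-- Homology of the restricted complex. -/
def rsEAppIso (V : Over Y) (i : ℤ) :
    ((rs (E e).op A).homology i).obj (op V) ≅ (A.homology i).obj (op ((E e).obj V)) :=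
  (((rs (E e).op A).sc i).mapHomologyIso ((evaluation (Over Y)ᵒᵖ AddCommGrpCat.{w}).obj (op V))).symm ≪≫
    (A.sc i).mapHomologyIso ((evaluation (Over Y)ᵒᵖ AddCommGrpCat.{w}).obj (op ((E e).obj V)))

theorem homologyMap_resC_app (V : Over Y) (i : ℤ) :
    (homologyMap (resC e A) i).app (op V) ≫ (rsEAppIso e A V i).hom =
      (A.homology i).map ((cou e).app V).op := by
  let ev1 := (evaluation (Over Y)ᵒᵖ AddCommGrpCat.{w}).obj (op V)
  let ev2 := (evaluation (Over Y)ᵒᵖ AddCommGrpCat.{w}).obj (op ((E e).obj V))
  let τ : ev1 ⟶ ev2 := (evaluation (Over Y)ᵒᵖ AddCommGrpCat.{w}).map ((cou e).app V).op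
  have h1 := ShortComplex.mapHomologyIso_hom_naturality
    ((shortComplexFunctor _ (ComplexShape.up ℤ) i).map (resC e A)) ev1
  have h2 := ShortComplex.homologyMap_mapNatTrans (A.sc i) τ
  have h3 : ShortComplex.homologyMap (ev1.mapShortComplex.map
      ((shortComplexFunctor _ (ComplexShape.up ℤ) i).map (resC e A))) =
      ShortComplex.homologyMap ((A.sc i).mapNatTrans τ) := rfl
  rw [h3, h2, Category.assoc, Iso.cancel_iso_hom_left] at h1
  have h4 : (homologyMap (resC e A) i).app (op V) =
      τ.app (A.sc i).homology ≫ ((A.sc i).mapHomologyIso ev2).inv ≫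
        (((rs (E e).op A).sc i).mapHomologyIso ev1).hom := by
    rw [← Category.assoc]
    exact h1.symm
  rw [h4, rsEAppIso]
  simp only [Iso.trans_hom, Iso.symm_hom, Category.assoc]
  erw [Iso.hom_inv_id_assoc, Iso.inv_hom_id, Category.comp_id]
  rfl

theorem homologyMap_resC_eq_zero_iff (V : Over Y) (i : ℤ) (x : (A.homology i).obj (op V)) :
    (homologyMap (resC e A) i).app (op V) x = 0 ↔ (A.homology i).map ((cou e).app V).op x = 0 := by
  have h := fun x => congrArg (fun t => t.hom x) (homologyMap_resC_app e A V i)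
  have hinj : Function.Injective (rsEAppIso e A V i).hom :=
    (AddCommGrpCat.mono_iff_injective _).1 inferInstance
  have h1 : (rsEAppIso e A V i).hom ((homologyMap (resC e A) i).app (op V) x) =
      (A.homology i).map ((cou e).app V).op x := h x
  constructor
  · intro h0
    rw [← h1, h0, map_zero]
  · intro h0
    apply hinj
    rw [h1, h0, map_zero]

theorem homologyMap_resC_surjective_iff (V : Over Y) (i : ℤ) :
    Function.Surjective ((homologyMap (resC e A) i).app (op V)) ↔
      Function.Surjective ((A.homology i).map ((cou e).app V).op) := by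
  have hbij : Function.Bijective (rsEAppIso e A V i).hom :=
    (ConcreteCategory.isIso_iff_bijective _).1 inferInstance
  have h1 : ⇑((A.homology i).map ((cou e).app V).op) =
      ⇑(rsEAppIso e A V i).hom ∘ ⇑((homologyMap (resC e A) i).app (op V)) := by
    funext x
    exact (congrArg (fun t => t.hom x) (homologyMap_resC_app e A V i)).symm
  rw [h1]
  exact ⟨fun h => hbij.2.comp h, fun h => (Function.Surjective.of_comp_iff' hbij _).1 h⟩

end General

section Sheaf

attribute [local instance] isGrothendieckAbelian_AbK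

variable {K : GrothendieckTopology Scheme.{u}} [Good K] {Y₀ Y : Scheme.{u}} [ContK K Y] (e : Y₀ ⟶ Y)
  (A : Type (u + 1)) [AddCommGroup A]
  (J : InjectiveResolution ((aPullK K Y).obj ((constantSheaf Y.smallEtaleTopology AddCommGrpCat.{u + 1}).obj
      (AddCommGrpCat.of A))))

theorem isZero_PC_X (i : ℤ) (hi : i < 0) : IsZero ((PC J.cochainComplex).X i) :=
  (sheafToPresheaf (K.over Y) AddCommGrpCat.{u + 1}).map_isZero
    (CochainComplex.isZero_of_isStrictlyGE J.cochainComplex 0 i hi)

theorem isZero_PC_homology (i : ℤ) (hi : i < 0) (V : Over Y) :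
    IsZero (((PC J.cochainComplex).homology i).obj (op V)) :=
  IsZero.obj (ShortComplex.isZero_homology_of_isZero_X₂ _ (isZero_PC_X A J i hi)) _

theorem isZero_rs_homology (i : ℤ) (hi : i < 0) (V : Over Y) :
    IsZero (((rs (E e).op (PC J.cochainComplex)).homology i).obj (op V)) :=
  (isZero_PC_homology A J i hi ((E e).obj V)).of_iso (rsEAppIso e _ V i)

variable [Mono e]

theorem shortExact_SK_J : (SK e (PC J.cochainComplex)).ShortExact :=
  shortExact_SK e J.cochainComplex fun _ => inferInstance

/-- `H⁰(KF) ⟶ LCov`. -/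
def kfι : (KF e (PC J.cochainComplex)).homology 0 ⟶ LCov Y A :=
  homologyMap (SK e (PC J.cochainComplex)).f 0 ≫ (homologyZeroLC K Y A J).hom

omit [Mono e] in
theorem map_cou_eq_zero_iff (V : Over Y) (φ : LocallyConstant V.left A) :
    (LCov Y A).map ((cou e).app V).op φ = 0 ↔ φ ∈ lvSub Y (Set.range e) A V := by
  rw [mem_lvSub]
  have h1 : ∀ w : ((E e).obj V).left, ((cou e).app V).left w = pullback.fst V.hom e w := by
    intro w
    rw [cou_left]
    rfl
  constructor
  · intro h v hv
    have hv' : v ∈ Set.range (pullback.fst V.hom e) := by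
      rw [Scheme.Pullback.range_fst]
      exact hv
    obtain ⟨w, rfl⟩ := hv'
    have h2 := DFunLike.congr_fun (F := LocallyConstant ((E e).obj V).left A) h w
    exact h2
  · intro h
    refine LocallyConstant.ext fun w => ?_
    change φ (((cou e).app V).left w) = 0
    rw [h1]
    refine h _ ?_
    have : pullback.fst V.hom e w ∈ Set.range (pullback.fst V.hom e) := ⟨w, rfl⟩
    rw [Scheme.Pullback.range_fst] at this
    exact this

theorem kfι_injective (V : Over Y) : Function.Injective ((kfι e A J).app (op V)) := by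
  have h1 := injective_of_ses (shortExact_SK_J e A J) V 0 (-1) (by lia) (by
    have h2 := isZero_rs_homology e A J (-1) (by lia) V
    intro y
    have : Subsingleton (((rs (E e).op (PC J.cochainComplex)).homology (-1)).obj (op V)) :=
      AddCommGrpCat.subsingleton_of_isZero h2
    exact ⟨0, Subsingleton.elim (α := ((rs (E e).op (PC J.cochainComplex)).homology (-1)).obj (op V)) _ _⟩)
  have h2 : Function.Injective ((homologyZeroLC K Y A J).hom.app (op V)) :=
    (AddCommGrpCat.mono_iff_injective _).1 inferInstance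
  exact h2.comp h1

theorem kfι_range (V : Over Y) (φ : LocallyConstant V.left A) :
    φ ∈ lvSub Y (Set.range e) A V ↔ ∃ x, (kfι e A J).app (op V) x = φ := by
  let ψ := homologyZeroLC K Y A J
  have hψ : ∀ x, ψ.inv.app (op V) (ψ.hom.app (op V) x) = x := fun x =>
    congrArg (fun t => (t.app (op V)).hom x) ψ.hom_inv_id
  have hψ' : ∀ x, ψ.hom.app (op V) (ψ.inv.app (op V) x) = x := fun x =>
    congrArg (fun t => (t.app (op V)).hom x) ψ.inv_hom_id
  rw [← map_cou_eq_zero_iff]
  have h1 : (LCov Y A).map ((cou e).app V).op φ = 0 ↔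
      ((PC J.cochainComplex).homology 0).map ((cou e).app V).op (ψ.inv.app (op V) φ) = 0 := by
    have h2 : ((PC J.cochainComplex).homology 0).map ((cou e).app V).op (ψ.inv.app (op V) φ) =
        ψ.inv.app (op ((E e).obj V)) ((LCov Y A).map ((cou e).app V).op φ) :=
      congrArg (fun t => t.hom φ) (ψ.inv.naturality ((cou e).app V).op).symm
    have h3 : Function.Injective (ψ.inv.app (op ((E e).obj V))) :=
      (AddCommGrpCat.mono_iff_injective _).1 inferInstance
    rw [h2]
    constructor
    · intro h
      rw [h, map_zero]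
    · intro h
      apply h3
      rw [h, map_zero]
  rw [h1, ← homologyMap_resC_eq_zero_iff]
  refine (exact_of_ses (shortExact_SK_J e A J) V 0 _).trans ?_
  constructor
  · rintro ⟨y, hy⟩
    refine ⟨y, ?_⟩
    change ψ.hom.app (op V) ((homologyMap (SK e (PC J.cochainComplex)).f 0).app (op V) y) = φ
    rw [hy, hψ']
  · rintro ⟨y, hy⟩
    refine ⟨y, ?_⟩
    have h2 := hψ ((homologyMap (SK e (PC J.cochainComplex)).f 0).app (op V) y)
    have h4 : ψ.hom.app (op V) ((homologyMap (SK e (PC J.cochainComplex)).f 0).app (op V) y) = φ := hy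
    rw [h4] at h2
    exact h2.symm

/-- `H⁰(KF) ≅ LV`. -/
theorem exists_kfZeroIso : ∃ κ : (KF e (PC J.cochainComplex)).homology 0 ≅ LV Y (Set.range e) A,
    κ.hom ≫ lvι Y (Set.range e) A = kfι e A J :=
  exists_iso_LV Y (Set.range e) A _ (kfι e A J) (kfι_injective e A J) (kfι_range e A J)

/-- `H⁰(KF) ≅ LV`. -/
def kfZeroIso : (KF e (PC J.cochainComplex)).homology 0 ≅ LV Y (Set.range e) A :=
  (exists_kfZeroIso e A J).choose

theorem kfZeroIso_hom : (kfZeroIso e A J).hom ≫ lvι Y (Set.range e) A = kfι e A J :=
  (exists_kfZeroIso e A J).choose_spec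

section Prod

variable [Finite A] {ι : Type u} {W : ι → Type u} [∀ i, CommRing (W i)] [∀ i, IsDomain (W i)]
  [∀ i, ValuationRing (W i)] (hW : ∀ i, IsAIC (W i))

include hW in
/-- Vanishing at `V = Spec ∏ W i`. -/
theorem isZero_KF [IsOpenImmersion e] [QuasiCompact e] (V : Over Y)
    (hv : ∀ (V : Over Y) (q : ℕ), 0 < q → IsZero (((uResK K V.hom).rightDerived q).obj
      ((aPullK K Y).obj ((constantSheaf Y.smallEtaleTopology AddCommGrpCat.{u + 1}).obj (AddCommGrpCat.of A)))))
    (ε : V.left ≅ Spec (CommRingCat.of (∀ i, W i))) (i : ℤ) (hi : 0 < i) :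
    IsZero (((KF e (PC J.cochainComplex)).homology i).obj (op V)) := by
  have hc : CompactSpace V.left := (ε.hom.homeomorph.symm.compactSpace)
  have hc' : CompactSpace ((E e).obj V).left := by
    change CompactSpace (pullback V.hom e : Scheme.{u})
    have : QuasiCompact (pullback.fst V.hom e) := inferInstance
    exact this.compactSpace_of_compactSpace
  have ho : IsOpenImmersion ((cou e).app V).left := by
    rw [cou_left]
    exact inferInstanceAs (IsOpenImmersion (pullback.fst V.hom e))
  refine isZero_of_ses (shortExact_SK_J e A J) V i (i - 1) (by lia) ?_ ?_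
  · change Function.Surjective ((homologyMap (resC e (PC J.cochainComplex)) (i - 1)).app (op V))
    rw [homologyMap_resC_surjective_iff]
    rcases (show 0 < i - 1 ∨ i - 1 = 0 by lia) with h | h
    · have h1 : IsZero (((PC J.cochainComplex).homology (i - 1)).obj (op ((E e).obj V))) :=
        isZero_homology_prod _ J hW ((E e).obj V) (hv _) ε ((cou e).app V).left (i - 1) h
      intro y
      have : Subsingleton (((PC J.cochainComplex).homology (i - 1)).obj (op ((E e).obj V))) :=
        AddCommGrpCat.subsingleton_of_isZero h1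
      exact ⟨0, Subsingleton.elim (α := ((PC J.cochainComplex).homology (i - 1)).obj (op ((E e).obj V))) _ _⟩
    · rw [h]
      intro y
      let ψ := homologyZeroLC K Y A J
      obtain ⟨φ, hφ⟩ := comap_surjective ε ((cou e).app V).left (M := A)
        (ψ.hom.app (op ((E e).obj V)) y)
      refine ⟨ψ.inv.app (op V) φ, ?_⟩
      have h2 : ((PC J.cochainComplex).homology 0).map ((cou e).app V).op (ψ.inv.app (op V) φ) =
          ψ.inv.app (op ((E e).obj V)) ((LCov Y A).map ((cou e).app V).op φ) :=
        congrArg (fun t => t.hom φ) (ψ.inv.naturality ((cou e).app V).op).symm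
      rw [h2]
      have h3 : (LCov Y A).map ((cou e).app V).op φ = ψ.hom.app (op ((E e).obj V)) y := hφ
      rw [h3]
      exact congrArg (fun t => (t.app (op ((E e).obj V))).hom y) ψ.hom_inv_id
  · have h1 : IsZero (((PC J.cochainComplex).homology i).obj (op V)) :=
      isZero_homology_prod _ J hW V (hv _) ε (𝟙 _) i hi
    intro x y _
    have : Subsingleton (((PC J.cochainComplex).homology i).obj (op V)) :=
      AddCommGrpCat.subsingleton_of_isZero h1
    exact Subsingleton.elim (α := ((PC J.cochainComplex).homology i).obj (op V)) _ _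

end Prod

end Sheaf

end Groth.Agent.EtDual.K143.PV
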