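import Mathlib.Algebra.Homology.HomologySequence
import Mathlib.CategoryTheory.Abelian.FunctorCategory
import Mathlib.Algebra.Category.Grp.Abelian
import Mathlib.Algebra.Homology.ShortComplex.Ab
import Mathlib.CategoryTheory.Limits.Preserves.FunctorCategory
import Mathlib.CategoryTheory.Limits.FunctorCategory.EpiMono

/-!
# Homology presheaves of a short exact sequence of complexes of presheaves

`0 → K → I → I' → 0` short exact sequence of complexes of abelian presheaves.

* `isZero_of_ses` : `H^i(K)(T) = 0` if `H^(i-1)(I)(T) → H^(i-1)(I')(T)` is onto and `H^i(I)(T) → H^i(I')(T)` is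
  injective;
* `exact_of_ses`, `injective_of_ses` : `H^0(K) = ker(H^0(I) → H^0(I'))`.
-/

set_option autoImplicit false

universe w v u

open CategoryTheory Category Limits Opposite HomologicalComplex

namespace Groth.Agent.EtDual.K143.PV

variable {C : Type u} [Category.{v} C] {S : ShortComplex (CochainComplex (Cᵒᵖ ⥤ AddCommGrpCat.{w}) ℤ)}
  (hS : S.ShortExact)

include hS

theorem isZero_of_ses (T : C) (i j : ℤ) (h : j + 1 = i)
    (h1 : Function.Surjective ((homologyMap S.g j).app (op T)))
    (h2 : Function.Injective ((homologyMap S.g i).app (op T))) :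
    IsZero ((S.X₁.homology i).obj (op T)) := by
  have hr : (ComplexShape.up ℤ).Rel j i := h
  have h3 := (hS.homology_exact₁ j i hr).map ((evaluation Cᵒᵖ AddCommGrpCat.{w}).obj (op T))
  have e1 : (hS.δ j i hr).app (op T) = 0 := by
    have : Epi ((homologyMap S.g j).app (op T)) := (AddCommGrpCat.epi_iff_surjective _).2 h1
    rw [← cancel_epi ((homologyMap S.g j).app (op T)), comp_zero]
    exact congrArg (fun t => t.app (op T)) (hS.comp_δ j i hr)
  have e2 : (homologyMap S.f i).app (op T) = 0 := by
    have : Mono ((homologyMap S.g i).app (op T)) := (AddCommGrpCat.mono_iff_injective _).2 h2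
    rw [← cancel_mono ((homologyMap S.g i).app (op T)), zero_comp]
    have h4 : homologyMap S.f i ≫ homologyMap S.g i = 0 := by
      rw [← homologyMap_comp, S.zero, homologyMap_zero]
    exact congrArg (fun t => t.app (op T)) h4
  exact h3.isZero_of_both_zeros e1 e2

theorem exact_of_ses (T : C) (i : ℤ) (x : (S.X₂.homology i).obj (op T)) :
    (homologyMap S.g i).app (op T) x = 0 ↔ ∃ y, (homologyMap S.f i).app (op T) y = x := by
  have h3 := (hS.homology_exact₂ i).map ((evaluation Cᵒᵖ AddCommGrpCat.{w}).obj (op T))
  rw [ShortComplex.ab_exact_iff] at h3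
  constructor
  · exact h3 x
  · rintro ⟨y, rfl⟩
    have h4 : homologyMap S.f i ≫ homologyMap S.g i = 0 := by
      rw [← homologyMap_comp, S.zero, homologyMap_zero]
    exact congrArg (fun t => (t.app (op T)).hom y) h4

theorem injective_of_ses (T : C) (i j : ℤ) (h : j + 1 = i)
    (h1 : Function.Surjective ((homologyMap S.g j).app (op T))) :
    Function.Injective ((homologyMap S.f i).app (op T)) := by
  have hr : (ComplexShape.up ℤ).Rel j i := h
  have h3 := (hS.homology_exact₁ j i hr).map ((evaluation Cᵒᵖ AddCommGrpCat.{w}).obj (op T))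
  have e1 : (hS.δ j i hr).app (op T) = 0 := by
    have : Epi ((homologyMap S.g j).app (op T)) := (AddCommGrpCat.epi_iff_surjective _).2 h1
    rw [← cancel_epi ((homologyMap S.g j).app (op T)), comp_zero]
    exact congrArg (fun t => t.app (op T)) (hS.comp_δ j i hr)
  exact (AddCommGrpCat.mono_iff_injective _).1 (h3.mono_g e1)

end Groth.Agent.EtDual.K143.PV
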