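import Groth.Agent.EtDual.K143.BigLC
import Groth.Agent.EtDual.K143.SesKer

/-!
# Locally constant functions vanishing over an open subset of the base

`LV Y O A : (Over Y)ᵒᵖ ⥤ Ab` : `V ↦ {φ ∈ LC(V, A) | φ v = 0 for v over O}`.
-/

set_option autoImplicit false

universe w v u

open CategoryTheory CategoryTheory.Limits AlgebraicGeometry Opposite
open Groth.Agent.Sga4B.ConstLC

noncomputable section

namespace Groth.Agent.EtDual.K143.PV

variable (Y : Scheme.{u}) (O : Set Y) (A : Type (u + 1)) [AddCommGroup A]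

/-- The subgroup of functions vanishing over `O`. -/
def lvSub (V : Over Y) : AddSubgroup (LocallyConstant V.left A) where
  carrier := {φ | ∀ v : V.left, V.hom v ∈ O → φ v = 0}
  zero_mem' := fun _ _ => rfl
  add_mem' := fun {a b} ha hb v hv => by
    rw [LocallyConstant.add_apply, ha v hv, hb v hv, add_zero]
  neg_mem' := fun {a} ha v hv => by
    rw [LocallyConstant.neg_apply, ha v hv, neg_zero]

theorem mem_lvSub {V : Over Y} {φ : LocallyConstant V.left A} :
    φ ∈ lvSub Y O A V ↔ ∀ v : V.left, V.hom v ∈ O → φ v = 0 := Iff.rfl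

theorem comap_mem_lvSub {V W : Over Y} (f : W ⟶ V) {φ : LocallyConstant V.left A} (h : φ ∈ lvSub Y O A V) :
    LocallyConstant.comap (cmap f.left) φ ∈ lvSub Y O A W := by
  intro w hw
  refine h (f.left w) ?_
  have h1 : V.hom (f.left w) = W.hom w := by
    rw [← Scheme.Hom.comp_apply, Over.w]
  rwa [h1]

/-- Locally constant functions vanishing over `O`. -/
def LV : (Over Y)ᵒᵖ ⥤ AddCommGrpCat.{u + 1} where
  obj V := AddCommGrpCat.of (lvSub Y O A V.unop)
  map {V W} f := AddCommGrpCat.ofHom
    { toFun := fun φ => ⟨LocallyConstant.comap (cmap f.unop.left) φ.1, comap_mem_lvSub Y O A f.unop φ.2⟩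
      map_zero' := rfl
      map_add' := fun _ _ => rfl }
  map_id V := by
    ext φ
    rfl
  map_comp f g := by
    ext φ
    rfl

/-- Inclusion into all locally constant functions. -/
def lvι : LV Y O A ⟶ LCov Y A where
  app V := AddCommGrpCat.ofHom (lvSub Y O A V.unop).subtype
  naturality V W f := by
    ext φ
    rfl

theorem lvι_apply (V : Over Y) (φ : lvSub Y O A V) : (lvι Y O A).app (op V) φ = φ.1 := rfl

theorem lvι_injective (V : Over Y) : Function.Injective ((lvι Y O A).app (op V)) :=
  fun _ _ h => Subtype.ext h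

/-- A presheaf with an injection to `LCov` with image `lvSub` is `LV`. -/
theorem exists_iso_LV (K : (Over Y)ᵒᵖ ⥤ AddCommGrpCat.{u + 1}) (i : K ⟶ LCov Y A)
    (h1 : ∀ V : Over Y, Function.Injective (i.app (op V)))
    (h2 : ∀ (V : Over Y) (φ : LocallyConstant V.left A), φ ∈ lvSub Y O A V ↔ ∃ x, i.app (op V) x = φ) :
    ∃ e : K ≅ LV Y O A, e.hom ≫ lvι Y O A = i := by
  let a : K ⟶ LV Y O A :=
    { app := fun V => AddCommGrpCat.ofHom
        ((i.app V).hom.codRestrict (lvSub Y O A V.unop) fun x => (h2 V.unop _).2 ⟨x, rfl⟩)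
      naturality := by
        intro V W f
        ext x
        apply Subtype.ext
        exact congrArg (fun t => t.hom x) (i.naturality f) }
  have ha : ∀ V : (Over Y)ᵒᵖ, IsIso (a.app V) := by
    intro V
    refine (ConcreteCategory.isIso_iff_bijective _).2 ⟨fun x y hxy => ?_, fun φ => ?_⟩
    · exact h1 V.unop (congrArg Subtype.val hxy)
    · obtain ⟨x, hx⟩ := (h2 V.unop φ.1).1 φ.2
      exact ⟨x, Subtype.ext hx⟩
  have : IsIso a := NatIso.isIso_of_isIso_app a
  refine ⟨asIso a, ?_⟩
  ext V x
  rfl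

end Groth.Agent.EtDual.K143.PV
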