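import Groth.Agent.EtDual.K143.AlphaMain
import Groth.Agent.EtDual.K617.PerfUD
import Groth.Agent.EtDual.K147.HasCover

/-!
# Tilting for cohomology with supports, from `HV` and `HU`

`mainT` : `Hⁱ K(B₀, x) ≅ Hⁱ K(W(B₀)/ξ, [x])` for `K = KF e (PC J.cochainComplex)`, `B₀` perfect, `ξ` distinguished,
given `v`-descent (`HV`) and invariance under completion (`HU`) for `K`.
-/

set_option autoImplicit false
set_option backward.isDefEq.respectTransparency false
set_option backward.isDefEq.respectTransparency.types false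

universe w v u

open CategoryTheory CategoryTheory.Limits AlgebraicGeometry Opposite Ideal
open K343.Basic K343.Res K781.Desc K152.Fib K148.Perf K933.PerfCat K933.Main K617.PerfUD

noncomputable section

namespace Groth.Agent.EtDual.K143.PV

attribute [local instance] isGrothendieckAbelian_AbK

variable {p : ℕ} [hp : Fact p.Prime] {d : ℕ} {Y₀ : Scheme.{u}} {e : Y₀ ⟶ Spec (Pd.{u} d)}
  [IsOpenImmersion e] [QuasiCompact e]
  (he : Set.range e = {q : Spec (Pd.{u} d) | ∃ i, (MvPolynomial.X i : MvPolynomial (Fin d) (ULift.{u} ℤ)) ∉ q.asIdeal})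
  (A : Type (u + 1)) [AddCommGroup A] [Finite A]
  {K : GrothendieckTopology Scheme.{u}} [Good K] [ContK K (Spec (Pd.{u} d))]
  (J : InjectiveResolution ((aPullK K (Spec (Pd.{u} d))).obj
    ((constantSheaf (Spec (Pd.{u} d)).smallEtaleTopology AddCommGrpCat.{u + 1}).obj (AddCommGrpCat.of A))))

omit [IsOpenImmersion e] [QuasiCompact e] [Finite A] in
theorem bb_KF_J : BB (KF e (PC J.cochainComplex)) :=
  bb_KF (bb_PC ⟨0, fun i hi => CochainComplex.isZero_of_isStrictlyGE J.cochainComplex 0 i hi⟩)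

include he in
theorem mainT {B₀ : CommRingCat.{u}} (hB₀ : IsPerf p B₀) (ξ : WittVector p (B₀ : Type u))
    (hξ : K148.Prim.IsDist ξ) (x : Fin d → B₀)
    (hv : ∀ (V : Over (Spec (Pd.{u} d))) (q : ℕ), 0 < q → IsZero (((uResK K V.hom).rightDerived q).obj
      ((aPullK K (Spec (Pd.{u} d))).obj ((constantSheaf (Spec (Pd.{u} d)).smallEtaleTopology
        AddCommGrpCat.{u + 1}).obj (AddCommGrpCat.of A)))))
    (hV2 : HV (KF e (PC J.cochainComplex)) x) (hU2 : HU (KF e (PC J.cochainComplex)) x (ξ.coeff 0))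
    (hV1 : HV (KF e (PC J.cochainComplex)) (tx₀ ξ x))
    (hU1 : HU (KF e (PC J.cochainComplex)) (tx₀ ξ x)
      ((p : ℕ) : CommRingCat.of (WittVector p (B₀ : Type u) ⧸ span {ξ}))) (i : ℤ) :
    Nonempty ((evO (ptS B₀ x) (KF e (PC J.cochainComplex))).homology i ≅
      (evO (ptS _ (tx₀ ξ x)) (KF e (PC J.cochainComplex))).homology i) := by
  refine K933.Main.main hB₀ (fun i hi => isZero_KF_X (isZero_PC_X A J i hi)) ?_ ?_
    (alphaMain he A ξ x J) (hgood he A ξ x J hξ hv) i
  · exact fun X T f hf => ud_K1 (bb_KF_J A J) ξ hξ x hV1 hU1 K147.VR.hasProdCover f hf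
  · exact fun X T f hf => ud_K2 (bb_KF_J A J) x (ξ.coeff 0) hV2 hU2 K147.VR.hasProdCover f hf

end Groth.Agent.EtDual.K143.PV
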