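import Groth.Agent.Flat2E.AIC1
import Mathlib.RingTheory.Idempotents
import Mathlib.RingTheory.Valuation.ValuationRing
import Mathlib.RingTheory.Bezout
import Mathlib.RingTheory.Ideal.Maps

/-!
# Products of absolutely integrally closed valuation rings: ring theory

* `Exch R` : for every `x` there is an idempotent `e` with `x ∣ e` and `1 - x ∣ 1 - e`
  (so every finite Zariski covering of `Spec R` is refined by a clopen partition);
* for `T = ∏ V i` (`V i` valuation rings), `g : T` and `S = T[1/g]`: `Exch T`, `Exch S`,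
  `T` is Bezout, idempotents of `S` come from idempotents of `T`;
* `IsAIC` of a product.
-/

set_option autoImplicit false

universe u v w

open Groth.Agent.Flat2E.AIC1 Polynomial

namespace Groth.Agent.EtDual.K143.PV

/-- Exchange rings (= clean commutative rings). -/
def Exch (R : Type u) [CommRing R] : Prop :=
  ∀ x : R, ∃ e : R, e * e = e ∧ x ∣ e ∧ (1 - x) ∣ (1 - e)

/-- An idempotent in the ideal generated by a finite family is a sum of orthogonal idempotents,
each of them divisible by the corresponding member of the family. -/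
theorem Exch.exists_orth_aux {R : Type u} [CommRing R] (h : Exch R) {ι : Type v} [DecidableEq ι]
    (c b : ι → R) (s : Finset ι) : ∀ u : R, u * u = u → u = ∑ i ∈ s, b i * c i →
      ∃ e : ι → R, (∀ i, e i * e i = e i) ∧ (∀ i j, i ≠ j → e i * e j = 0) ∧
        (∀ i ∈ s, c i ∣ e i) ∧ (∀ i, i ∉ s → e i = 0) ∧ ∑ i ∈ s, e i = u := by
  classical
  induction s using Finset.induction_on generalizing b with
  | empty =>
    intro u _ hu
    refine ⟨fun _ => 0, by simp, by simp, by simp, by simp, ?_⟩
    simpa using hu.symm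
  | insert a s ha ih =>
    intro u huu hu
    rw [Finset.sum_insert ha] at hu
    obtain ⟨e, hee, ⟨q, hq⟩, ⟨y, hy⟩⟩ := h (u * (b a * c a))
    have hue : u * e = e := by
      rw [hq]
      linear_combination (b a * c a * q) * huu
    have key : u * (1 - e) = ∑ i ∈ s, (u * y * b i) * c i := by
      have h1 : ∑ i ∈ s, (u * y * b i) * c i = u * y * ∑ i ∈ s, b i * c i := by
        rw [Finset.mul_sum]
        exact Finset.sum_congr rfl fun i _ => by ring
      have h2 : ∑ i ∈ s, b i * c i = u - b a * c a := by rw [hu]; ring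
      rw [h1, h2, hy]
      linear_combination (-y) * huu + y * (-(b a * c a)) * huu
    obtain ⟨f, hff, hfo, hfd, hf0, hfs⟩ := ih (fun i => u * y * b i) (u * (1 - e))
      (by linear_combination (1 - e) ^ 2 * huu + u * hee) key
    have hfu : ∀ i, i ∈ s → f i * (u * (1 - e)) = f i := by
      intro i hi
      rw [← hfs, Finset.mul_sum, Finset.sum_eq_single i]
      · exact hff i
      · intro j _ hji
        exact hfo i j (Ne.symm hji)
      · exact fun h => absurd hi h
    have hfe : ∀ i, f i * e = 0 := by
      intro i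
      by_cases hi : i ∈ s
      · rw [← hfu i hi]
        linear_combination (-(f i * u)) * hee
      · rw [hf0 i hi, zero_mul]
    refine ⟨fun i => if i = a then e else f i, ?_, ?_, ?_, ?_, ?_⟩
    · intro i
      dsimp only
      split_ifs
      · exact hee
      · exact hff i
    · intro i j hij
      dsimp only
      split_ifs with h1 h2 h2
      · exact absurd (h1.trans h2.symm) hij
      · rw [mul_comm]; exact hfe j
      · exact hfe i
      · exact hfo i j hij
    · intro i hi
      dsimp only
      split_ifs with h1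
      · subst h1
        exact ⟨u * b i * q, by rw [hq]; ring⟩
      · exact hfd i (by simpa [h1] using hi)
    · intro i hi
      have h1 : i ≠ a := fun h => hi (by rw [h]; exact Finset.mem_insert_self _ _)
      have h2 : i ∉ s := fun h => hi (Finset.mem_insert_of_mem h)
      simp [h1, hf0 i h2]
    · rw [Finset.sum_insert ha, if_pos rfl]
      have : ∑ i ∈ s, (if i = a then e else f i) = ∑ i ∈ s, f i :=
        Finset.sum_congr rfl fun i hi => by rw [if_neg]; rintro rfl; exact ha hi
      rw [this, hfs]
      linear_combination hue * (-1)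

/-- Over an exchange ring every finite Zariski covering is refined by a finite partition
into clopen subsets. -/
theorem Exch.exists_orth {R : Type u} [CommRing R] (h : Exch R) {ι : Type v} [Fintype ι]
    (c : ι → R) (hc : Ideal.span (Set.range c) = ⊤) :
    ∃ e : ι → R, CompleteOrthogonalIdempotents e ∧ ∀ i, c i ∣ e i := by
  classical
  have h1 : (1 : R) ∈ Ideal.span (Set.range c) := by rw [hc]; trivial
  obtain ⟨b, hb⟩ := (Ideal.mem_span_range_iff_exists_fun).1 h1
  obtain ⟨e, he, ho, hd, -, hs⟩ := h.exists_orth_aux c b Finset.univ 1 (one_mul 1) hb.symm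
  refine ⟨e, ⟨⟨fun i => he i, fun i j hij => ho i j hij⟩, hs⟩, fun i => hd i (Finset.mem_univ i)⟩

theorem IsAIC.pi {I : Type v} {V : I → Type u} [∀ i, CommRing (V i)] (h : ∀ i, IsAIC (V i)) :
    IsAIC (∀ i, V i) := by
  intro p hp hn
  classical
  have key : ∀ i, ∃ x : V i, (p.map (Pi.evalRingHom V i)).IsRoot x := by
    intro i
    by_cases hi : Nontrivial (V i)
    · refine h i _ (hp.map _) ?_
      rw [hp.natDegree_map]
      exact hn
    · rw [not_nontrivial_iff_subsingleton] at hi
      exact ⟨0, Subsingleton.elim _ _⟩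
  choose x hx using key
  refine ⟨x, ?_⟩
  rw [IsRoot.def]
  funext i
  have h1 := hx i
  rw [IsRoot.def, eval_map] at h1
  have h2 : (Pi.evalRingHom V i) (p.eval x) = p.eval₂ (Pi.evalRingHom V i) (x i) := by
    rw [eval, hom_eval₂]
    rfl
  exact h2.trans h1

section Prod

variable {I : Type v} {V : I → Type u} [∀ i, CommRing (V i)] [∀ i, IsDomain (V i)] [∀ i, ValuationRing (V i)]

theorem dvd_total (i : I) (a b : V i) : a ∣ b ∨ b ∣ a := ValuationRing.dvd_total a b

omit [∀ i, IsDomain (V i)] [∀ i, ValuationRing (V i)] in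
theorem pi_dvd_iff (x y : ∀ i, V i) : x ∣ y ↔ ∀ i, x i ∣ y i := by
  constructor
  · rintro ⟨z, rfl⟩ i
    exact ⟨z i, rfl⟩
  · intro h
    choose z hz using h
    exact ⟨z, funext hz⟩

/-- Finitely generated ideals of a product of valuation rings are principal. -/
instance isBezout_pi : IsBezout (∀ i, V i) := by
  classical
  rw [IsBezout.iff_span_pair_isPrincipal]
  intro x y
  have h := fun i => dvd_total i (x i) (y i)
  let d : ∀ i, V i := fun i => if x i ∣ y i then x i else y i
  let e : ∀ i, V i := fun i => if x i ∣ y i then 1 else 0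
  refine ⟨d, le_antisymm ?_ ?_⟩
  · rw [Submodule.span_le]
    rintro z (rfl | rfl)
    · refine Ideal.mem_span_singleton.2 ((pi_dvd_iff _ _).2 fun i => ?_)
      by_cases hi : z i ∣ y i
      · simp [d, hi]
      · simpa [d, hi] using (h i).resolve_left hi
    · refine Ideal.mem_span_singleton.2 ((pi_dvd_iff _ _).2 fun i => ?_)
      by_cases hi : x i ∣ z i
      · simpa [d, hi] using hi
      · simp [d, hi]
  · have hd : d = e * x + (1 - e) * y := by
      funext i
      by_cases hi : x i ∣ y i <;> simp [d, e, hi]
    refine (Ideal.span_singleton_le_iff_mem _).2 ?_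
    rw [hd]
    exact Ideal.add_mem _ (Ideal.mul_mem_left _ _ (Ideal.subset_span (by simp)))
      (Ideal.mul_mem_left _ _ (Ideal.subset_span (by simp)))

variable (g : ∀ i, V i) {S : Type w} [CommRing S] [Algebra (∀ i, V i) S] [IsLocalization.Away g S]

include g in
/-- A localization `T[1/g]` of a product of valuation rings is an exchange ring. -/
theorem exch_away : Exch S := by
  classical
  intro x
  obtain ⟨⟨y, ⟨_, m, rfl⟩⟩, hy⟩ := IsLocalization.surj (Submonoid.powers g) x
  -- `x * g ^ m = y`
  dsimp only at hy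
  set G := g ^ m with hG
  have hGu : IsUnit (algebraMap (∀ i, V i) S G) := by
    rw [hG, map_pow]
    exact (IsLocalization.Away.algebraMap_isUnit g).pow m
  -- idempotent
  let e : ∀ i, V i := fun i => if y i ∣ G i then 1 else 0
  have he : e * e = e := by
    funext i
    by_cases hi : y i ∣ G i <;> simp [e, hi]
  have h1 : ∃ a : ∀ i, V i, a * y = e * G := by
    refine ⟨fun i => if hi : y i ∣ G i then hi.choose else 0, ?_⟩
    funext i
    by_cases hi : y i ∣ G i
    · have := hi.choose_spec
      simp only [Pi.mul_apply, dif_pos hi, e, if_pos hi, one_mul]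
      rw [mul_comm]; exact this.symm
    · simp [e, hi]
  have h2 : ∃ b : ∀ i, V i, b * (G - y) = (1 - e) * G := by
    have h3 : ∀ i, ¬ y i ∣ G i → ∃ b : V i, b * (G i - y i) = G i := by
      intro i hi
      obtain ⟨z, hz⟩ := (dvd_total i (y i) (G i)).resolve_left hi
      have hz1 : IsUnit (1 - z) := by
        rcases IsLocalRing.isUnit_or_isUnit_one_sub_self z with h | h
        · exfalso
          apply hi
          obtain ⟨w, hw⟩ := h
          refine ⟨((w⁻¹ : (V i)ˣ) : V i), ?_⟩
          rw [hz, ← hw, mul_assoc, Units.mul_inv, mul_one]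
        · exact h
      obtain ⟨w, hw⟩ := hz1
      refine ⟨((w⁻¹ : (V i)ˣ) : V i), ?_⟩
      have : G i - y i = G i * (1 - z) := by rw [hz]; ring
      rw [this, ← hw, mul_comm (G i), ← mul_assoc, Units.inv_mul, one_mul]
    refine ⟨fun i => if hi : y i ∣ G i then 0 else (h3 i hi).choose, ?_⟩
    funext i
    by_cases hi : y i ∣ G i
    · simp [e, hi]
    · have := (h3 i hi).choose_spec
      simpa [e, hi] using this
  obtain ⟨a, ha⟩ := h1
  obtain ⟨b, hb⟩ := h2
  have ha' := congrArg (algebraMap (∀ i, V i) S) ha
  have hb' := congrArg (algebraMap (∀ i, V i) S) hb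
  simp only [map_mul, map_sub, map_one] at ha' hb'
  refine ⟨algebraMap _ S e, by rw [← map_mul, he], ⟨algebraMap _ S a, ?_⟩, ⟨algebraMap _ S b, ?_⟩⟩
  · apply hGu.mul_right_cancel
    rw [← ha', ← hy]
    ring
  · apply hGu.mul_right_cancel
    rw [← hb', ← hy]
    ring

/-- A product of valuation rings is an exchange ring. -/
theorem exch_pi : Exch (∀ i, V i) :=
  haveI : IsLocalization.Away (1 : ∀ i, V i) (∀ i, V i) :=
    IsLocalization.away_of_isUnit_of_bijective _ isUnit_one Function.bijective_id
  exch_away (S := ∀ i, V i) (1 : ∀ i, V i)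

omit [∀ i, ValuationRing (V i)] in
include g in
/-- Idempotents of `T[1/g]` come from idempotents of `T`. -/
theorem exists_idem (x : S) (hx : x * x = x) :
    ∃ f : ∀ i, V i, f * f = f ∧ algebraMap (∀ i, V i) S f = x := by
  classical
  obtain ⟨⟨y, ⟨_, m, rfl⟩⟩, hy⟩ := IsLocalization.surj (Submonoid.powers g) x
  dsimp only at hy
  have hGu : IsUnit (algebraMap (∀ i, V i) S (g ^ m)) := by
    rw [map_pow]
    exact (IsLocalization.Away.algebraMap_isUnit g).pow m
  have h1 : algebraMap (∀ i, V i) S (y * y) = algebraMap (∀ i, V i) S (g ^ m * y) := by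
    rw [map_mul, map_mul, ← hy]
    linear_combination (algebraMap (∀ i, V i) S (g ^ m)) ^ 2 * hx
  obtain ⟨⟨_, n, rfl⟩, hn⟩ := (IsLocalization.eq_iff_exists (Submonoid.powers g) S).1 h1
  dsimp only at hn
  let f : ∀ i, V i := fun i => if g i = 0 ∨ y i = 0 then 0 else 1
  refine ⟨f, ?_, ?_⟩
  · funext i
    by_cases hi : g i = 0 ∨ y i = 0 <;> simp [f, hi]
  · apply hGu.mul_right_cancel
    rw [hy, ← map_mul]
    refine (IsLocalization.eq_iff_exists (Submonoid.powers g) S).2 ⟨⟨g ^ (n + 1), n + 1, rfl⟩, ?_⟩
    dsimp only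
    funext i
    have hi := congrFun hn i
    simp only [Pi.mul_apply, Pi.pow_apply] at hi ⊢
    by_cases hg : g i = 0
    · simp [hg]
    · by_cases h0 : y i = 0
      · simp [f, h0]
      · have h2 : y i = g i ^ m := by
          have h3 : g i ^ n ≠ 0 := pow_ne_zero _ hg
          have h4 := mul_left_cancel₀ h3 hi
          exact mul_right_cancel₀ h0 h4
        simp [f, hg, h0, h2]

omit [∀ i, IsDomain (V i)] [∀ i, ValuationRing (V i)] in
include g in
theorem isAIC_away (h : ∀ i, IsAIC (V i)) : IsAIC S :=
  (IsAIC.pi h).of_isLocalization (Submonoid.powers g)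

end Prod

end Groth.Agent.EtDual.K143.PV
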