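import Groth.Agent.EtDual.K143.ClopenVan
import Groth.Agent.EtDual.K143.ProdLC
import Groth.Agent.EtDual.K143.BigLC

/-!
# Étale cohomology of quasi-compact open subschemes of `Spec ∏ V i`, `V i` a.i.c. valuation rings

* `H_pi`, `H_open` : `H^q(X, F) = 0 = H^q(W, F)` for `q ≥ 1`, `X ≅ Spec ∏ V i`, `W ⟶ X` a quasi-compact open
  immersion;
* `comap_surjective`, `comap_eq_zero_iff` : locally constant functions.
-/

set_option autoImplicit false

universe u v w

open CategoryTheory CategoryTheory.Limits AlgebraicGeometry Opposite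
open Groth.Agent.Flat2E.AIC1 Groth.Agent.Sga4B.ConstLC

namespace Groth.Agent.EtDual.K143.PV

section

variable {I : Type u} {V : I → Type u} [∀ i, CommRing (V i)] [∀ i, IsDomain (V i)] [∀ i, ValuationRing (V i)]
  (hV : ∀ i, IsAIC (V i)) {X : Scheme.{u}} (e : X ≅ Spec (CommRingCat.of (∀ i, V i)))

include hV e

/-- `H^q(Spec ∏ V i, F) = 0` for `q ≥ 1`. -/
theorem H_pi (F : EtCoh.Ab X) (q : ℕ) (hq : 1 ≤ q) : Subsingleton (EtCoh.H X F q) :=
  H_subsingleton_of_exch_aic e exch_pi (IsAIC.pi hV) F q hq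

omit hV in
/-- Quasi-compact open subschemes of `Spec ∏ V i` are principal. -/
theorem exists_iso_away {W : Scheme.{u}} [CompactSpace W] (j : W ⟶ X) [IsOpenImmersion j] :
    ∃ h : ∀ i, V i, Nonempty (W ≅ Spec (CommRingCat.of (Localization.Away h))) := by
  have h1 : IsOpenImmersion (j ≫ e.hom) := inferInstance
  have h2 : IsOpen (Set.range (j ≫ e.hom)) := (j ≫ e.hom).isOpenEmbedding.isOpen_range
  have h3 : IsCompact (Set.range (j ≫ e.hom)) := isCompact_range (j ≫ e.hom).continuous
  obtain ⟨h, hh⟩ := exists_eq_basicOpen _ h2 h3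
  refine ⟨h, ⟨?_⟩⟩
  have h4 : IsOpenImmersion (Spec.map (CommRingCat.ofHom (algebraMap (∀ i, V i) (Localization.Away h)))) :=
    IsOpenImmersion.of_isLocalization h
  refine IsOpenImmersion.isoOfRangeEq (j ≫ e.hom)
    (Spec.map (CommRingCat.ofHom (algebraMap (∀ i, V i) (Localization.Away h)))) ?_
  rw [range_away]
  exact hh

/-- `H^q(W, F) = 0` for `q ≥ 1`, `W` a quasi-compact open subscheme of `Spec ∏ V i`. -/
theorem H_open {W : Scheme.{u}} [CompactSpace W] (j : W ⟶ X) [IsOpenImmersion j] (F : EtCoh.Ab W) (q : ℕ)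
    (hq : 1 ≤ q) : Subsingleton (EtCoh.H W F q) := by
  obtain ⟨h, ⟨e'⟩⟩ := exists_iso_away e j
  exact H_subsingleton_of_exch_aic e' (exch_away h) (isAIC_away h hV) F q hq

end

section LC

variable {I : Type u} {V : I → Type u} [∀ i, CommRing (V i)] [∀ i, IsDomain (V i)]
  {X : Scheme.{u}} (e : X ≅ Spec (CommRingCat.of (∀ i, V i)))

/-- The generic point of the `i`-th factor. -/
noncomputable def etaX (i : I) : X := e.inv (eta i : PrimeSpectrum (∀ i, V i))

theorem eq_of_etaX {M : Type w} {f f' : LocallyConstant X M} (h : ∀ i, f (etaX e i) = f' (etaX e i)) : f = f' := by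
  have h1 : LocallyConstant.comap (cmap e.inv) f = LocallyConstant.comap (cmap e.inv) f' :=
    eq_of_eta' (V := V) _ _ h
  ext x
  have h2 : e.inv (e.hom x) = x := by
    rw [← Scheme.Hom.comp_apply, e.hom_inv_id]; rfl
  have h3 := DFunLike.congr_fun h1 (e.hom x)
  have h4 : f (e.inv (e.hom x)) = f' (e.inv (e.hom x)) := h3
  rwa [h2] at h4

/-- Every function on the index set comes from a locally constant function. -/
theorem exists_etaX {M : Type w} [Finite M] (φ : I → M) :
    ∃ f : LocallyConstant X M, ∀ i, f (etaX e i) = φ i := by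
  refine ⟨LocallyConstant.comap (cmap e.hom) (ext (V := V) φ), fun i => ?_⟩
  have h2 : e.hom (e.inv (eta i : PrimeSpectrum (∀ i, V i))) = eta i := by
    rw [← Scheme.Hom.comp_apply, e.inv_hom_id]; rfl
  change ext (V := V) φ (e.hom (e.inv (eta i : PrimeSpectrum (∀ i, V i)))) = φ i
  rw [h2, ext_eta]

/-- Evaluation at the generic points is a bijection `LC(X, M) ≃ (I → M)`. -/
theorem etaX_bijective {M : Type w} [Finite M] :
    Function.Bijective (fun (f : LocallyConstant X M) (i : I) => f (etaX e i)) :=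
  ⟨fun _ _ h => eq_of_etaX e fun i => congrFun h i, fun φ => by
    obtain ⟨f, hf⟩ := exists_etaX e φ
    exact ⟨f, funext hf⟩⟩

/-- A locally constant function on `X` vanishes on the open subscheme `W` iff it vanishes at the generic points
in `W`. -/
theorem comap_eq_iff {W : Scheme.{u}} (j : W ⟶ X) [IsOpenImmersion j] {M : Type w} (f f' : LocallyConstant X M) :
    LocallyConstant.comap (cmap j) f = LocallyConstant.comap (cmap j) f' ↔
      ∀ i, etaX e i ∈ Set.range j → f (etaX e i) = f' (etaX e i) := by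
  constructor
  · rintro h i ⟨w, hw⟩
    have h1 : f (j w) = f' (j w) := DFunLike.congr_fun h w
    rwa [hw] at h1
  · intro h
    ext w
    change f (j w) = f' (j w)
    have h1 : IsOpen {r : Spec (CommRingCat.of (∀ i, V i)) | e.inv r ∈ Set.range j ∧ f (e.inv r) = f (j w) ∧
        f' (e.inv r) = f' (j w)} := by
      refine IsOpen.inter ?_ (IsOpen.inter ?_ ?_)
      · exact j.isOpenEmbedding.isOpen_range.preimage e.inv.continuous
      · exact (f.isLocallyConstant.isOpen_fiber _).preimage e.inv.continuous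
      · exact (f'.isLocallyConstant.isOpen_fiber _).preimage e.inv.continuous
    have h2 : e.inv (e.hom (j w)) = j w := by
      rw [← Scheme.Hom.comp_apply e.hom e.inv, e.hom_inv_id]; rfl
    obtain ⟨i, hi1, hi2, hi3⟩ := exists_eta_mem_open _ h1 (e.hom (j w)) (by
      refine ⟨?_, ?_, ?_⟩
      · rw [h2]; exact ⟨w, rfl⟩
      · rw [h2]
      · rw [h2])
    rw [← hi2, ← hi3]
    exact h i hi1

end LC

section Surj

variable {I : Type u} {V : I → Type u} [∀ i, CommRing (V i)] [∀ i, IsDomain (V i)] [∀ i, ValuationRing (V i)]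
  {X : Scheme.{u}} (e : X ≅ Spec (CommRingCat.of (∀ i, V i)))

include e

/-- Locally constant functions extend from quasi-compact open subschemes. -/
theorem comap_surjective {W : Scheme.{u}} [CompactSpace W] (j : W ⟶ X) [IsOpenImmersion j] {M : Type w} [Finite M]
    [Nonempty M] : Function.Surjective (LocallyConstant.comap (cmap j) : LocallyConstant X M → LocallyConstant W M) := by
  intro f
  have h1 : IsOpenImmersion (j ≫ e.hom) := inferInstance
  have h2 : IsOpen (Set.range (j ≫ e.hom)) := (j ≫ e.hom).isOpenEmbedding.isOpen_range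
  have h3 : IsCompact (Set.range (j ≫ e.hom)) := isCompact_range (j ≫ e.hom).continuous
  let H : W ≃ₜ Set.range (j ≫ e.hom) := (j ≫ e.hom).isOpenEmbedding.toIsEmbedding.toHomeomorph
  obtain ⟨φ, hφ⟩ := exists_ext (V := V) _ h2 h3 (LocallyConstant.comap ⟨H.symm, H.symm.continuous⟩ f)
  refine ⟨LocallyConstant.comap (cmap e.hom) (ext (V := V) φ), ?_⟩
  ext w
  have h4 := hφ (H w)
  have h5 : f (H.symm (H w)) = ext φ (H w).1 := h4
  rw [H.symm_apply_apply] at h5
  exact h5.symm

end Surj

end Groth.Agent.EtDual.K143.PV
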