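import Groth.Agent.EtDual.K143.ProdVal
import Groth.Agent.EtDual.K143.LV
import Groth.Agent.EtDesc.K224.Sec

/-!
# Vanishing for the presheaf complex underlying an injective resolution on the big site
-/

set_option autoImplicit false

universe w v u

open CategoryTheory CategoryTheory.Limits AlgebraicGeometry Opposite
open Groth.Agent.Sga4B.ConstLC Groth.Agent.Etrest.BigEtSite K343.Basic K343.Res K224.Sec
open Groth.Agent.Flat2E.AIC1

noncomputable section

namespace Groth.Agent.EtDual.K143.PV

attribute [local instance] isGrothendieckAbelian_AbK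

variable {K : GrothendieckTopology Scheme.{u}} {Y : Scheme.{u}} {G : AbK K Y} (I : InjectiveResolution G)

/-- The complex of presheaves underlying an injective resolution. -/
abbrev preCx : CochainComplex ((Over Y)ᵒᵖ ⥤ AddCommGrpCat.{u + 1}) ℤ :=
  ((sheafToPresheaf (K.over Y) AddCommGrpCat.{u + 1}).mapHomologicalComplex (ComplexShape.up ℤ)).obj
    I.cochainComplex

/-- Values of the homology presheaves. -/
def preCxHomologyIso (V : Over Y) (i : ℤ) :
    ((preCx I).homology i).obj (op V) ≅
      (((sec K V).mapHomologicalComplex (ComplexShape.up ℤ)).obj I.cochainComplex).homology i :=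
  (((preCx I).sc i).mapHomologyIso ((evaluation (Over Y)ᵒᵖ AddCommGrpCat.{u + 1}).obj (op V))).symm

variable [Good K] [ContK K Y] (F : EtCoh.Ab Y) (J : InjectiveResolution ((aPullK K Y).obj F))

/-- `H^i(I(V)) = 0` for `i > 0` when the étale cohomology of `V` vanishes in positive degrees. -/
theorem isZero_homology_preCx (V : Over Y)
    (hv : ∀ q : ℕ, 0 < q → IsZero (((uResK K V.hom).rightDerived q).obj ((aPullK K Y).obj F)))
    (h : ∀ q : ℕ, 1 ≤ q → Subsingleton (EtCoh.H V.left ((EtCoh.pull V.hom).obj F) q)) (i : ℤ) (hi : 0 < i) :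
    IsZero (((preCx J).homology i).obj (op V)) := by
  obtain ⟨q, rfl⟩ := Int.eq_ofNat_of_zero_le hi.le
  obtain ⟨e⟩ := nonempty_homology K V F hv J q q rfl
  have hq : 1 ≤ q := by omega
  have h1 : IsZero (AddCommGrpCat.of (EtCoh.H V.left ((EtCoh.pull V.hom).obj F) q)) := by
    have := h q hq
    exact AddCommGrpCat.isZero_of_subsingleton _
  exact (h1.of_iso e).of_iso (preCxHomologyIso J V q)

section Prod

variable {ι : Type u} {W : ι → Type u} [∀ i, CommRing (W i)] [∀ i, IsDomain (W i)] [∀ i, ValuationRing (W i)]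
  (hW : ∀ i, IsAIC (W i))

include hW in
/-- Vanishing at a quasi-compact open subscheme of `Spec ∏ W i`. -/
theorem isZero_homology_prod (V : Over Y)
    (hv : ∀ q : ℕ, 0 < q → IsZero (((uResK K V.hom).rightDerived q).obj ((aPullK K Y).obj F)))
    {X : Scheme.{u}} (e : X ≅ Spec (CommRingCat.of (∀ i, W i))) [CompactSpace V.left] (j : V.left ⟶ X)
    [IsOpenImmersion j] (i : ℤ) (hi : 0 < i) : IsZero (((preCx J).homology i).obj (op V)) :=
  isZero_homology_preCx F J V hv (fun q hq => H_open hW e j _ q hq) i hi

end Prod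

end Groth.Agent.EtDual.K143.PV
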