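import Groth.Agent.EtDual.K143.IdemLC
import Groth.Agent.EtDual.K148.Prim

/-!
# Witt vectors: idempotents and products

* `idemBij_constantCoeff` : `W(B) → B` is bijective on idempotents (`B` perfect of characteristic `p`);
* `lc_bijective` : `LC(Spec W(B), M) → LC(Spec B, M)` is bijective;
* `sharpPi` : `W(∏ B i)/ξ ≃ ∏ W(B i)/ξ i`.
-/

set_option autoImplicit false

universe u v w

open WittVector Ideal

namespace Groth.Agent.EtDual.K143.PV

variable {p : ℕ} [hp : Fact p.Prime]

section Idem

variable {B : Type u} [CommRing B]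

theorem idem_eq_zero_of_mem_jacobson {R : Type u} [CommRing R] {e : R} (he : e * e = e)
    (h : e ∈ Ideal.jacobson (⊥ : Ideal R)) : e = 0 := by
  rw [Ideal.mem_jacobson_bot] at h
  obtain ⟨v, hv⟩ := (h (-1)).exists_right_inv
  have h1 : e * (e * -1 + 1) = 0 := by linear_combination -he
  calc e = e * ((e * -1 + 1) * v) := by rw [hv, mul_one]
    _ = (e * (e * -1 + 1)) * v := by ring
    _ = 0 := by rw [h1, zero_mul]

/-- `W(B) → B` is bijective on idempotents. -/
theorem idemBij_constantCoeff [CharP B p] [PerfectRing B p] :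
    IdemBij (constantCoeff : WittVector p B →+* B) := by
  constructor
  · intro e he
    exact ⟨teichmuller p e, by rw [← map_mul, he], teichmuller_coeff_zero p e⟩
  · have key : ∀ r r' : WittVector p B, r * r = r → r' * r' = r' →
        (constantCoeff r : B) = constantCoeff r' → r * (1 - r') = 0 := by
      intro r r' hr hr' h
      refine idem_eq_zero_of_mem_jacobson (by linear_combination (1 - r') ^ 2 * hr + r * hr') ?_
      refine IsAdicComplete.le_jacobson_bot (Ideal.span {(p : WittVector p B)}) ?_
      rw [mem_span_p_iff_coeff_zero_eq_zero]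
      change constantCoeff (r * (1 - r')) = 0
      have h1 : (constantCoeff r' : B) * constantCoeff r' = constantCoeff r' := by rw [← map_mul, hr']
      rw [map_mul, map_sub, map_one, h]
      linear_combination -h1
    intro r r' hr hr' h
    have h1 := key r r' hr hr' h
    have h2 := key r' r hr' hr h.symm
    linear_combination h1 - h2

variable (p B) in
/-- Restriction of locally constant functions to `Spec B ⊂ Spec W(B)`. -/
noncomputable def resW (M : Type w) :
    LocallyConstant (PrimeSpectrum (WittVector p B)) M → LocallyConstant (PrimeSpectrum B) M :=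
  LocallyConstant.comap ⟨PrimeSpectrum.comap (constantCoeff : WittVector p B →+* B),
    PrimeSpectrum.continuous_comap _⟩

theorem resW_bijective [CharP B p] [PerfectRing B p] {M : Type w} [Finite M] :
    Function.Bijective (resW p B M) :=
  comap_bijective_of_idemBij idemBij_constantCoeff

/-- Supports: if `φ̄` vanishes on `D(b)`, then `φ` vanishes on `D([b])`. -/
theorem resW_vanish [CharP B p] [PerfectRing B p] {M : Type w} [Zero M]
    (φ : LocallyConstant (PrimeSpectrum (WittVector p B)) M) (b : B)
    (h : ∀ q : PrimeSpectrum B, b ∉ q.asIdeal → resW p B M φ q = 0)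
    (q : PrimeSpectrum (WittVector p B)) (hq : teichmuller p b ∉ q.asIdeal) : φ q = 0 := by
  refine vanish_lift (f := (constantCoeff : WittVector p B →+* B)) b (teichmuller p b) ?_ ?_ φ h q hq
  · intro r hr hrb
    have h1 : r = teichmuller p (constantCoeff r : B) :=
      idemBij_constantCoeff.2 _ _ hr (by rw [← map_mul, ← map_mul, hr]) (teichmuller_coeff_zero p _).symm
    rw [h1, ← map_mul, hrb, teichmuller_zero]
  · exact (isReduced_iff_pow_one_lt 2 one_lt_two).2 fun b hb =>
      K148.Prim.eq_zero_of_mul_self (p := p) (by rw [← pow_two]; exact hb)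

end Idem

section Prod

variable {I : Type v} {B : I → Type u} [∀ i, CommRing (B i)]

theorem witt_ext_pi {x y : WittVector p (∀ i, B i)}
    (h : ∀ i, WittVector.map (Pi.evalRingHom B i) x = WittVector.map (Pi.evalRingHom B i) y) : x = y := by
  ext n i
  have h1 := congrArg (fun z => z.coeff n) (h i)
  simp only [map_coeff] at h1
  exact h1

theorem exists_witt_pi (x : ∀ i, WittVector p (B i)) :
    ∃ y : WittVector p (∀ i, B i), ∀ i, WittVector.map (Pi.evalRingHom B i) y = x i := by
  refine ⟨WittVector.mk p fun n i => (x i).coeff n, fun i => ?_⟩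
  ext n
  rw [map_coeff, coeff_mk]
  rfl

/-- `W(∏ B i)/ξ → ∏ W(B i)/ξ i`. -/
noncomputable def sharpPiHom (ξ : WittVector p (∀ i, B i)) :
    (WittVector p (∀ i, B i) ⧸ span {ξ}) →+*
      ∀ i, WittVector p (B i) ⧸ span {WittVector.map (Pi.evalRingHom B i) ξ} :=
  RingHom.pi fun i => K148.Prim.sharpMap ξ (Pi.evalRingHom B i)

theorem sharpPiHom_apply (ξ : WittVector p (∀ i, B i)) (x) (i : I) :
    sharpPiHom ξ x i = K148.Prim.sharpMap ξ (Pi.evalRingHom B i) x := rfl

theorem sharpPiHom_bijective (ξ : WittVector p (∀ i, B i)) : Function.Bijective (sharpPiHom ξ) := by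
  constructor
  · rw [injective_iff_map_eq_zero]
    intro x hx
    obtain ⟨x, rfl⟩ := Ideal.Quotient.mk_surjective x
    have h1 : ∀ i, ∃ y, WittVector.map (Pi.evalRingHom B i) x = WittVector.map (Pi.evalRingHom B i) ξ * y := by
      intro i
      have h2 := congrFun hx i
      rw [sharpPiHom_apply, K148.Prim.sharpMap_mk, Pi.zero_apply, Ideal.Quotient.eq_zero_iff_mem,
        Ideal.mem_span_singleton] at h2
      exact h2
    choose y hy using h1
    obtain ⟨z, hz⟩ := exists_witt_pi y
    rw [Ideal.Quotient.eq_zero_iff_mem, Ideal.mem_span_singleton]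
    refine ⟨z, witt_ext_pi fun i => ?_⟩
    rw [map_mul, hz, hy]
  · intro x
    choose y hy using fun i => Ideal.Quotient.mk_surjective (x i)
    obtain ⟨z, hz⟩ := exists_witt_pi y
    refine ⟨Ideal.Quotient.mk _ z, funext fun i => ?_⟩
    rw [sharpPiHom_apply, K148.Prim.sharpMap_mk, hz, hy]

/-- `W(∏ B i)/ξ ≃ ∏ W(B i)/ξ i`. -/
noncomputable def sharpPi (ξ : WittVector p (∀ i, B i)) :
    (WittVector p (∀ i, B i) ⧸ span {ξ}) ≃+*
      ∀ i, WittVector p (B i) ⧸ span {WittVector.map (Pi.evalRingHom B i) ξ} :=
  RingEquiv.ofBijective (sharpPiHom ξ) (sharpPiHom_bijective ξ)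

theorem sharpPi_apply (ξ : WittVector p (∀ i, B i)) (x) (i : I) :
    sharpPi ξ x i = K148.Prim.sharpMap ξ (Pi.evalRingHom B i) x := rfl

end Prod

end Groth.Agent.EtDual.K143.PV
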